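import Mathlib
import Cfsg.Agent.H23.SCd
import Cfsg.Agent.S0999

/-! Simple groups with a prime divisor whose cube exceeds the order. -/

set_option autoImplicit false
set_option linter.unusedVariables false

namespace Cfsg.Agent.H23
open scoped MatrixGroups

universe v

variable {G : Type*} [Group G] [Finite G] [IsSimpleGroup G]

theorem cube_cases (hG : ¬ IsCyclic G) {p : ℕ} (hp : p.Prime) (hd : p ∣ Nat.card G)
    (hb : Nat.card G < p ^ 3) : 3 < p ∧
    ((2 * Nat.card G = p * (p - 1) * (p + 1) ∧ ∀ (F : Type v) [Field F] [Fintype F],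
      Fintype.card F = p → Nonempty (G ≃* PSL(2, F))) ∨
    (Nat.card G = (p - 1) * (p - 2) * p ∧ (∃ m, p = 2 ^ m + 1) ∧
      ∀ (F : Type v) [Field F] [Fintype F],
      Fintype.card F = p - 1 → Nonempty (G ≃* PSL(2, F)))) := by
  rcases S0999.result hG p hp hd hb with ⟨K, _, _, h1, h2, ⟨e⟩⟩ | ⟨m, K, _, _, h1, h2, h3, ⟨e⟩⟩
  · refine ⟨h2, Or.inl ⟨?_, fun F _ _ hF => ⟨e.trans (psl_congr (h1.trans hF.symm)).some⟩⟩⟩
    have := H10.card_PSL2 (F := K)
    rw [Nat.card_eq_fintype_card (α := K), h1, ← Nat.card_congr e.toEquiv,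
      Nat.gcd_eq_left (hp.even_sub_one (by omega)).two_dvd] at this
    exact this
  · refine ⟨h3, Or.inr ⟨?_, ⟨m, h2⟩, fun F _ _ hF =>
      ⟨e.trans (psl_congr (by rw [h1, hF]; omega)).some⟩⟩⟩
    have := H10.card_PSL2 (F := K)
    have m0 : m ≠ 0 := by rintro rfl; omega
    have h4 : 2 ∣ 2 ^ m := dvd_pow_self 2 m0
    rw [Nat.card_eq_fintype_card (α := K), h1, ← Nat.card_congr e.toEquiv,
      Nat.Coprime.gcd_eq_one ((Nat.Prime.coprime_iff_not_dvd Nat.prime_two).2 (by omega)),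
      one_mul] at this
    rw [this, h2]; rfl

theorem not_cyclic_of_card {n : ℕ} (hn : Nat.card G = n) (h : ¬ n.Prime) : ¬ IsCyclic G :=
  fun hc => H20.simple_not_comm_of_not_prime (hn ▸ h) inferInstance

theorem psl_of_cube {n p : ℕ} (hn : Nat.card G = n) (hp : p.Prime)
    (h : ¬ n.Prime ∧ p ∣ n ∧ n < p ^ 3 ∧ n ≠ (p - 1) * (p - 2) * p) {F : Type*} [Field F]
    [Fintype F] (hF : Fintype.card F = p) : Nonempty (G ≃* PSL(2, F)) := by
  subst hn
  rcases (cube_cases (not_cyclic_of_card rfl h.1) hp h.2.1 h.2.2.1).2 with e | e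
  · exact e.2 F hF
  · exact absurd e.1 h.2.2.2

theorem psl_of_cube' {n p : ℕ} (hn : Nat.card G = n) (hp : p.Prime)
    (h : ¬ n.Prime ∧ p ∣ n ∧ n < p ^ 3 ∧ 2 * n ≠ p * (p - 1) * (p + 1)) {F : Type*} [Field F]
    [Fintype F] (hF : Fintype.card F = p - 1) : Nonempty (G ≃* PSL(2, F)) := by
  subst hn
  rcases (cube_cases (not_cyclic_of_card rfl h.1) hp h.2.1 h.2.2.1).2 with e | e
  · exact absurd e.1 h.2.2.2
  · exact e.2.2 F hF

end Cfsg.Agent.H23
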