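import Cfsg.Agent.H27.Real2
import Cfsg.Prelude.Def_SubgroupEmbedding

/-! Sidki pairs of order at most four. -/

set_option autoImplicit false

namespace Cfsg.Agent.H23.Sid

open Cfsg Subgroup

variable {G : Type*} [Group G] {V : Subgroup G} {a b w x y : G}

theorem inv_self (hx : Odd (orderOf x)) (h : x⁻¹ = x) : x = 1 :=
  orderOf_eq_one_iff.1 (Nat.Coprime.eq_one_of_dvd (Nat.coprime_two_right.2 hx)
    (orderOf_dvd_of_pow_eq_one (by rw [pow_two]; exact mul_eq_one_iff_eq_inv.2 h.symm)))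

theorem comm_of_sq (hy : Odd (orderOf y)) (h : Commute (y * y) x) : Commute y x := by
  obtain ⟨n, hn⟩ := hy
  have := h.pow_left (n + 1)
  rwa [← pow_two, ← pow_mul, show 2 * (n + 1) = orderOf y + 1 by omega, pow_succ, pow_orderOf_eq_one, one_mul] at this

theorem odd_inv (hx : Odd (orderOf x)) (hy : Odd (orderOf y)) (h : y * x * y⁻¹ = x⁻¹) : x = 1 := by
  have : Commute y x := comm_of_sq hy (by
    rw [Commute, SemiconjBy, ← mul_inv_eq_iff_eq_mul]
    calc _ = y * (y * x * y⁻¹) * y⁻¹ := by group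
      _ = (y * x * y⁻¹)⁻¹ := by nth_rw 1 [h]; group
      _ = x := by rw [h, inv_inv])
  exact inv_self hx (by rw [← h, this.eq, mul_inv_cancel_right])

theorem four [Finite G] (h4 : Nat.card V ≤ 4) (ha : a ∈ V) (hb : b ∈ V) (a1 : a ≠ 1) (b1 : b ≠ 1) (ab : a ≠ b)
    (ab1 : a * b ≠ 1) (hw : w ∈ V) : w = 1 ∨ w = a ∨ w = b ∨ w = a * b := by_contra fun e => by
  have h : ({w, 1, a, b, a * b} : Set G).ncard ≤ 4 := (Set.ncard_le_ncard (t := {v | v ∈ V}) (by
    rintro _ (rfl | rfl | rfl | rfl | rfl)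
    exacts [hw, one_mem V, ha, hb, mul_mem ha hb])).trans h4
  rw [Set.ncard_insert_of_notMem (s := {1, a, b, a * b}) e, Set.ncard_insert_of_notMem (by simp [a1.symm, b1.symm, ab1.symm]),
    Set.ncard_insert_of_notMem (by simp [ab, b1]), Set.ncard_pair (by simp [a1])] at h
  omega

theorem main [Finite G] (hV : IsElementaryAbelian 2 V) (hV1 : V ≠ ⊥) (hS : IsSidkiPair V) (h4 : Nat.card V ≤ 4) :
    V ⊓ pCore 2 G ≠ ⊥ := fun e => by
  have cm : ∀ a ∈ V, ∀ b ∈ V, a * b = b * a := fun a ha b hb => congrArg Subtype.val (hV.1.is_comm.comm ⟨a, ha⟩ ⟨b, hb⟩)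
  have S : ∀ {v x : G}, v ∈ V → Odd (orderOf x) → v * x * v⁻¹ = x⁻¹ → ∃ w ∈ V, w ≠ 1 ∧ w * x * w⁻¹ = x :=
    fun hv hx h => by simpa only [mul_inv_eq_iff_eq_mul] using hS _ _ hv hx h
  have ex : ∀ v ∈ V, v ≠ 1 → ∃ x : G, x ≠ 1 ∧ Odd (orderOf x) ∧ v * x * v⁻¹ = x⁻¹ ∧
      ∃ w ∈ V, w ≠ 1 ∧ w ≠ v ∧ w * v ≠ 1 ∧ w * x * w⁻¹ = x := fun v hv v1 => by
    obtain ⟨x, x1, hx, h⟩ := H27.exists_odd_inverted (hV.2 v hv) fun k => v1 (e.le ⟨hv, k⟩)
    obtain ⟨w, hw, w1, h'⟩ := S hv hx h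
    have : w ≠ v := fun k => x1 (inv_self hx (by rw [← h, ← k, h']))
    exact ⟨x, x1, hx, h, w, hw, w1, this, fun k => this (mul_right_cancel (k.trans ((pow_two v).symm.trans (hV.2 v hv)).symm)), h'⟩
  obtain ⟨⟨c, hc⟩, c1⟩ := ne_bot_iff_exists_ne_one.1 hV1
  have c1 : c ≠ 1 := fun k => c1 (Subtype.ext k)
  obtain ⟨x, x1, hx, cx, b, hb, b1, bc, bc1, bx⟩ := ex c hc c1
  obtain ⟨y, y1, hy, by', a, ha, a1, ab, ab1, ay⟩ := ex b hb b1
  have ax : a * x * a⁻¹ = x⁻¹ := by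
    rcases four h4 hb hc b1 c1 bc bc1 ha with k | k | k | k
    · exact absurd k a1
    · exact absurd k ab
    · rwa [k]
    · rw [k]
      calc _ = b * (c * x * c⁻¹) * b⁻¹ := by group
        _ = (b * x * b⁻¹)⁻¹ := by rw [cx]; group
        _ = _ := by rw [bx]
  have A : ∀ {g : G} {u v : G}, g * (u * v) * g⁻¹ = g * u * g⁻¹ * (g * v * g⁻¹) := by intros; group
  have I : ∀ {g : G} {u : G}, g * u⁻¹ * g⁻¹ = (g * u * g⁻¹)⁻¹ := by intros; group
  have M : ∀ {u : G}, a * b * u * (a * b)⁻¹ = a * (b * u * b⁻¹) * a⁻¹ := by intros; group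
  have ho : Odd (orderOf (y * x * y⁻¹)) := by rwa [FT.orderOf_conj]
  have xy : Commute y x := by
    obtain ⟨w, hw, w1, h⟩ := S ha ho (by rw [A, A, I, ay, ax]; group)
    rcases four h4 ha hb a1 b1 ab ab1 hw with k | k | k | k <;> rw [k] at h
    · exact absurd k w1
    · rw [A, A, I, ay, ax] at h
      exact absurd (inv_self hx (by simpa using h)) x1
    · rw [A, A, I, by', bx] at h
      refine comm_of_sq hy ?_
      calc y * y * x = y * (y * x * y⁻¹) * y := by group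
        _ = _ := by rw [← h]; group
    · rw [M, A (g := b), A (g := b), I, by', bx, inv_inv, A, A, I, ay, ax] at h
      refine absurd (odd_inv hx (y := y * y) (hy.of_dvd_nat (pow_two y ▸ orderOf_pow_dvd 2)) ?_) x1
      calc _ = y * (y * x * y⁻¹) * y⁻¹ := by group
        _ = _ := by rw [← h]; group
  have ho : Odd (orderOf (y * x)) := (hy.mul hx).of_dvd_nat xy.orderOf_mul_dvd_mul_orderOf
  have k : a * b * (y * x) * (a * b)⁻¹ = (y * x)⁻¹ := by
    rw [M, A (g := b), by', bx, A, I, ay, ax, xy.eq, mul_inv_rev]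
  obtain ⟨w, hw, w1, h⟩ := S (mul_mem ha hb) ho k
  rcases four h4 ha hb a1 b1 ab ab1 hw with k' | k' | k' | k' <;> rw [k'] at h
  · exact w1 k'
  · rw [A, ay, ax] at h
    exact x1 (inv_self hx (mul_left_cancel h))
  · rw [A, by', bx] at h
    exact y1 (inv_self hy (mul_right_cancel h))
  · rw [eq_inv_of_mul_eq_one_left (inv_self ho (k.symm.trans h)), I, ax, inv_inv] at ay
    exact x1 (inv_self hx ay.symm)

end Cfsg.Agent.H23.Sid
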