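import Cfsg.Agent.H23.Cop
import Cfsg.Agent.H5.Frob
import Cfsg.Agent.H22.Hol
import Cfsg.Agent.H28.Act

/-! Nilpotent maximal invariant subgroups under coprime action. -/

set_option autoImplicit false
set_option linter.unusedSectionVars false
set_option linter.unusedVariables false

namespace Cfsg.Agent.H23

open Cfsg Cfsg.Agent.FT Subgroup
open scoped commutatorElement

universe u

variable {G : Type*} [Group G] [Finite G] {π : Set ℕ} {p : ℕ} {A B H K L M N P Q V X Y : Subgroup G}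

theorem npc_of_ZJ (hp : p.Prime) (hp2 : p ≠ 2) (hP : Syl p P K) (h1 : P ≠ ⊥) :
    ∃ Z, Z ≤ P ∧ Z ≠ ⊥ ∧ N(P) ≤ N(Z) ∧ (NPC p (K ⊓ N(Z)) → NPC p K) := by
  have := Fact.mk hp
  refine ⟨Z(H5b.Jn p P), inf_le_left.trans (H5b.Jn_le p P),
    (hP.pi.mono (H5b.Jn_le p P)).center_ne_bot (P22.Jn_ne_bot hp hP.pi h1),
    norms_center (P22.norms_Jn le_rfl), fun h => ?_⟩
  exact (npc_iff hp).2 (H5b.hasNPC_of_ZJn_sub hp2 (.inr rfl) ((syl_iff_sylIn hp).1 hP) ((npc_iff hp).1 h))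

theorem exists_odd_prime (h : ¬ PGrp 2 K) : ∃ p, p.Prime ∧ p ≠ 2 ∧ p ∣ #K := by
  by_contra hc
  push Not at hc
  exact h fun p hp hd => by_contra fun h2 => hc p hp h2 hd

theorem sol_of_inv_nil (n : ℕ) : ∀ {G : Type u} [Group G] [Finite G] {A K : Subgroup G}, #K = n → A ≤ N(K) →
    Cop K A → (∀ H, H < K → A ≤ N(H) → Nil H) → Sol K := by
  induction n using Nat.strong_induction_on with
  | _ n ih =>
  intro G _ _ A K e hn hc h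
  by_cases h0 : ∃ N, N ⊴ K ∧ A ≤ N(N) ∧ N ≠ ⊥ ∧ N ≠ K
  · obtain ⟨N, hN, hA, h1, h2⟩ := h0
    refine sol_of_quo hN.nrm (h N (lt_of_le_of_ne hN.le h2) hA).sol
      (ih _ (e ▸ card_quo_lt hN h1) rfl (quo_norms N hn) (hc.quo N) fun U hU hAU => ?_)
    have := (h qpre(N, U) (by
      have := (qpre_lt_qpre (K := N)).2 hU
      rwa [qpre_quo_of_nml hN] at this) (norms_qpre hA hAU)).quo N
    rwa [quo_qpre] at this
  push Not at h0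
  by_cases h2 : PGrp 2 K
  · exact h2.sol
  obtain ⟨p, hp, hp2, hd⟩ := exists_odd_prime h2
  obtain ⟨P, hP, hA⟩ := coprime_Sylow_exists p hn hc (sol_or_sol hc)
  have hP1 := hP.syl_ne_bot (mem_piOf.2 ⟨hp, hd⟩)
  obtain ⟨Z, hZ, hZ1, hZn, hZ2⟩ := npc_of_ZJ hp hp2 hP hP1
  by_cases hK : K ≤ N(Z)
  · exact ((h0 Z ⟨hZ.trans hP.le, hK⟩ (hA.trans hZn) hZ1) ▸ hP.pi.mono hZ : PGrp p K).sol
  have h3 := hZ2 ((h _ (inf_lt_left.2 hK) (normsI hn (norms_norm (hA.trans hZn)))).npc p)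
  by_cases h4 : O[{p}ᶜ](K) = ⊥
  · exact (h3.sd hP).sol (h4 ▸ sol_bot) hP.pi.sol
  · exact absurd hd ((p'grp_iff hp).1 (h0 _ (pcore_nml _ _) (norms_pcore _ hn) h4 ▸ pcore_pi _ _))

theorem schmidt_inv (hn : A ≤ N(K)) (hc : Cop K A) (h : ∀ H, H < K → A ≤ N(H) → Nil H) (hK : ¬ Nil K) :
    (∃ p q, p.Prime ∧ q.Prime ∧ p ≠ q ∧ PiGrp {p, q} K) ∧
      ∃ p P, p.Prime ∧ p ∣ #K ∧ Syl p P K ∧ K ≤ N(P) := by
  have hs := sol_of_inv_nil _ rfl hn hc h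
  have h1 : ∃ p q, p.Prime ∧ q.Prime ∧ p ≠ q ∧ PiGrp {p, q} K := by
    by_contra h1
    refine hK (nil_of_forall_syl' fun p hp hd => ?_)
    obtain ⟨P, hP, hA⟩ := coprime_Sylow_exists p hn hc (.inl hs)
    refine ⟨P, hP, le_of_forall_syl fun q hq hqd => ?_⟩
    by_cases e : p = q
    · exact ⟨P, e ▸ hP, le_nrm _⟩
    obtain ⟨H, hH, hAH, hPH⟩ := coprime_Hall_subset (π := {p, q}) hn hc hs hP.le (hP.pi.pi (by simp)) hA
    obtain ⟨Q, hQ⟩ := exists_syl q H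
    have hlt : H < K := lt_of_le_of_ne hH.le fun e' => h1 ⟨p, q, hp, hq, e, e' ▸ hH.pi⟩
    exact ⟨Q, hH.subHall_syl (by simp) hQ, hQ.le.trans ((h H hlt hAH).hall_nml (hP.subl hPH hH.le)).nrm⟩
  refine ⟨h1, ?_⟩
  obtain ⟨p, q, hp, hq, hne, hpq⟩ := h1
  have hK1 : K ≠ ⊥ := fun e => hK (e ▸ nil_bot)
  have hD := der_nml K
  obtain ⟨r, hr, hrd⟩ := exists_prime_dvd_card (quo_ne_bot hD.nrm (hs.der_lt hK1).not_ge)
  have hab := ab_quo_der K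
  have hU := hab.nil.pcore_hall {r}ᶜ
  set L := qpre(⁅K, K⁆, O[{r}ᶜ](K /ₛ ⁅K, K⁆)) with hL
  have hLK : L ⊴ K := qpre_nml hD (pcore_nml _ _)
  have hLi : PiNat {r} (L.relIndex K) := by
    rw [hL, relIndex_qpre _ hD.nrm]; exact piNat_compl_compl.1 hU.idx
  have hlt : L < K := lt_of_le_of_ne hLK.le fun e => by
    have : K /ₛ ⁅K, K⁆ = O[{r}ᶜ](K /ₛ ⁅K, K⁆) := by rw [← quo_qpre O[{r}ᶜ](K /ₛ ⁅K, K⁆), ← hL, e]
    exact (p'grp_iff hr).1 (this ▸ pcore_pi _ _) hrd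
  have hLn := h L hlt (norms_qpre (norms_der hn) (norms_pcore _ (quo_norms _ hn)))
  obtain ⟨s, hs', hsr, hsd⟩ : ∃ s, s.Prime ∧ s ≠ r ∧ s ∣ #K := by
    by_contra hc
    push Not at hc
    exact hK (PiGrp.nil (p := r) fun s hs hd => by_contra fun h2 => hc s hs h2 hd)
  exact ⟨s, O[{s}](L), hs', hsd, (hLn.pcore_hall _).of_relIndex hLK.le (hLi.p' hsr.symm), (hLK.pcore _).nrm⟩

/-! ### groups with a Sylow `2`-subgroup of class at most two -/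

theorem ker_all (hm : MaxIn P L) (hn : ¬ L ≤ N(P)) (hN : L ≤ N(X)) (hP : P ≤ X) : L ≤ X := by
  rcases (le_inf hm.lt.le hP).eq_or_lt with e | h
  · exact absurd (e ▸ normsI (le_nrm L) hN) hn
  · exact inf_eq_left.1 (hm.max _ h inf_le_left)

theorem comm_all (hm : MaxIn P L) (hn : ¬ L ≤ N(P)) (hX : L ≤ N(X)) (hY : L ≤ N(Y)) (hYX : Y ≤ N(X))
    (h : ⁅P, Y⁆ ≤ X) : ⁅L, Y⁆ ≤ X :=
  ((le_qpre_cen hYX).1 (ker_all hm hn (norms_qpre hX (norms_cent (quo_norms _ hY)))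
    ((le_qpre_cen hYX).2 ⟨hm.lt.le.trans hX, h⟩))).2

/-- `Q` has index at most two in `P` -/
def I2 (Q P : Subgroup G) : Prop := ∀ x ∈ P, ∀ y ∈ P, x ∉ Q → y ∉ Q → x⁻¹ * y ∈ Q

theorem I2.cj (h : I2 Q P) {g : G} (hg : g ∈ N(P)) : I2 (cj g Q) P := by
  intro x hx y hy h1 h2
  rw [mem_cj] at h1 h2 ⊢
  have := h _ (conj_mem' hg hx) _ (conj_mem' hg hy) h1 h2
  convert this using 1
  group

theorem I2.comm_eq (h : I2 Q P) {v x y : G} (hv : Q ≤ C[v]) (hx : x ∈ P) (hy : y ∈ P) (h1 : x ∉ Q) (h2 : y ∉ Q) :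
    ⁅y, v⁆ = ⁅x, v⁆ := by
  have := mem_cen1.1 (hv (h x hx y hy h1 h2))
  rw [commutatorElement_def, commutatorElement_def]
  calc y * v * y⁻¹ * v⁻¹ = x * (x⁻¹ * y * v) * y⁻¹ * v⁻¹ := by group
    _ = _ := by rw [this]; group

theorem not_mem_of_comm_ne {v x : G} (hv : Q ≤ C[v]) (h : ⁅x, v⁆ ≠ 1) : x ∉ Q := fun hx =>
  h (commutatorElement_eq_one_iff_mul_comm.2 (mem_cen1.1 (hv hx)))

theorem comm_sq {x y : G} (h : ⁅x, y⁆ * x = x * ⁅x, y⁆) : ⁅x ^ 2, y⁆ = ⁅x, y⁆ ^ 2 := by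
  calc ⁅x ^ 2, y⁆ = x * ⁅x, y⁆ * x⁻¹ * ⁅x, y⁆ := by simp only [commutatorElement_def, sq]; group
    _ = _ := by rw [← h, mul_inv_cancel_right, sq]

theorem comm_sq' {x y : G} (h : ⁅x, y⁆ * y = y * ⁅x, y⁆) : ⁅x, y ^ 2⁆ = ⁅x, y⁆ ^ 2 := by
  calc ⁅x, y ^ 2⁆ = ⁅x, y⁆ * (y * ⁅x, y⁆ * y⁻¹) := by simp only [commutatorElement_def, sq]; group
    _ = _ := by rw [← h, mul_inv_cancel_right, sq]

theorem loc_cen (hS : Syl 2 P L) (hZ : Z(P) ≤ O[{2}](L)) (hC : L ⊓ C(Ω[2](Z(P))) ≤ P) :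
    L ⊓ C(Ω[2](Z(O[{2}](L)))) ≤ O[{2}](L) := by
  refine pcore_max (hS.pi.mono (le_trans (inf_le_inf_left _ (cen_anti (Ohm_mono _ ?_))) hC))
    (subcent_nml ((pcore_nml _ _).center.Ohm 2).nrm)
  exact le_inf hZ (center_le_cen (pcore_le_syl hS))

theorem loc_idx (hS : Syl 2 P L) (hm : MaxIn P L) (hn : ¬ L ≤ N(P)) (hc : ⁅P, P⁆ ≤ C(P))
    (hZ : Z(P) ≤ O[{2}](L)) (hC : L ⊓ C(Ω[2](Z(P))) ≤ P) : I2 O[{2}](L) P := by
  set Q := O[{2}](L) with hQ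
  have hQL : Q ⊴ L := pcore_nml _ _
  have hQP : Q ≤ P := pcore_le_syl hS
  have hPn : P ≤ N(Q) := hS.le.trans hQL.nrm
  have hab : Ab (P /ₛ Q) := ab_quo_of_der_le ((le_inf (der_le P) hc).trans hZ)
  have hS' := hS.quo hQL.nrm
  have hm' := hm.quo hQL.nrm hQP
  have hn' : ¬ L /ₛ Q ≤ N(P /ₛ Q) := fun h => hn (norms_of_quo hQL.nrm ⟨hQP, hPn⟩ h)
  have hnpc : NPC 2 (L /ₛ Q) := by
    refine Burnside_normal_complement hS' ?_
    rcases (le_inf hS'.le (le_nrm _)).eq_or_lt with e | h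
    · exact e ▸ hab.le_cen
    · exact absurd (inf_eq_left.1 (hm'.max _ h inf_le_left)) hn'
  have hsd := hnpc.sd hS'
  have hcyc : Cyc (P /ₛ Q) := by
    by_contra hnc
    have hR : O[{2}ᶜ](L /ₛ Q) ≠ ⊥ := fun e => hm'.lt.ne (by rw [← hsd.sup, e, bot_sup_eq])
    obtain ⟨a, ha, ha1, h⟩ := coprime_abelian_exists_cent1_ne hab hnc hsd.nrm ((pcore_pi _ _).cop' hS'.pi) hR
    have h1 : L /ₛ Q ≤ C[a] := by
      refine inf_eq_left.1 (hm'.max _ (lt_of_le_of_ne (le_inf hS'.le (hab.le_cen1 ha)) fun e => h ?_) inf_le_left)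
      exact eq_bot_of_le (le_inf inf_le_left (e ▸ inf_le_inf_right _ (pcore_le _ _))) hsd.inf
    have h2 : ⟪a⟫ ≤ O[{2}](L /ₛ Q) := pcore_max (hS'.pi.mono (zpowers_le.2 ha))
      ⟨zpowers_le.2 (hS'.le ha), norms_zpowers_of_cen1 h1⟩
    rw [pcore_quo_pcore] at h2
    exact ha1 (mem_bot.1 (h2 (mem_zpowers a)))
  have hsq : ∀ x ∈ P, x ^ 2 ∈ Q := fun x hx => by
    refine loc_cen hS hZ hC ⟨hS.le (pow_mem hx 2), mem_cen.2 fun v hv => ?_⟩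
    have hvP : v ∈ P := hQP (Ohm_le _ _ hv).1
    have h1 : ⁅v, x⁆ ∈ C(P) := hc (commutator_mem_commutator hvP hx)
    rw [← commutatorElement_eq_one_iff_mul_comm, comm_sq' (mem_cen.1 h1 x hx).symm,
      ← comm_sq (mem_cen.1 h1 v hvP).symm, (abelem_Ohm_center 2 Q).pow hv, commutatorElement_one_left]
  obtain ⟨u, hu⟩ := cyc_iff.1 hcyc
  have hu2 : u ^ 2 = 1 := by
    obtain ⟨x, hx, hxn, rfl⟩ := mem_quo.1 (hu ▸ mem_zpowers u : u ∈ P /ₛ Q)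
    rw [← coset_pow hxn, coset_of_mem (hsq x hx)]
  have key : ∀ x ∈ P, x ∉ Q → coset(Q, x) = u := fun x hx hxQ => by
    obtain ⟨k, hk⟩ := mem_zpowers_iff.1 (hu ▸ mem_quo_of_mem (hPn hx) hx : coset(Q, x) ∈ ⟪u⟫)
    have h2 : u ^ (2 : ℤ) = 1 := by exact_mod_cast hu2
    rcases Int.even_or_odd' k with ⟨j, rfl | rfl⟩
    · rw [zpow_mul, h2, one_zpow] at hk
      exact absurd ((coset_eq_one_iff (hPn hx)).1 hk.symm) hxQ
    · rw [zpow_add, zpow_mul, h2, one_zpow, one_mul, zpow_one] at hk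
      exact hk.symm
  intro x hx y hy h1 h2
  exact (coset_eq_iff (hPn hx) (hPn hy)).1 ((key x hx h1).trans (key y hy h2).symm)

/-- the two partners of `Q` coincide -/
theorem partner {Q₁ Q₂ : Subgroup G} {u v₁ v₂ : G} (hc : ⁅P, P⁆ ≤ C(P)) (hQ : PGrp 2 Q) (h : I2 Q P) (h₁ : Q₁ ≤ P)
    (h₂ : I2 Q₂ P) (hu : u ∈ P) (hv₁ : v₁ ∈ P) (hv₂ : v₂ ∈ P) (hn₁ : v₁ ∉ Q) (hn₂ : v₂ ∉ Q) (e₁ : v₁ ^ 2 = 1)
    (e₂ : v₂ ^ 2 = 1) (hcu : Q ≤ C[u]) (hc₁ : Q₁ ≤ C[v₁]) (hc₂ : Q₂ ≤ C[v₂]) (hz : ⁅u, v₁⁆ ≠ 1)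
    (hne : ¬ Q₁ ≤ Q₂) : ⁅u, v₁⁆ ∈ Phi Q := by
  have i₁ : v₁⁻¹ = v₁ := inv_eq_of_mul_eq_one_right (sq v₁ ▸ e₁)
  have i₂ : v₂⁻¹ = v₂ := inv_eq_of_mul_eq_one_right (sq v₂ ▸ e₂)
  have hy : v₁ * v₂ ∈ Q := i₁ ▸ h _ hv₁ _ hv₂ hn₁ hn₂
  have e : ⁅u, v₂⁆ = ⁅u, v₁⁆ := by
    rw [← commutatorElement_inv, h.comm_eq hcu hv₁ hv₂ hn₁ hn₂, commutatorElement_inv]
  have hu₂ : u ∉ Q₂ := not_mem_of_comm_ne hc₂ (e ▸ hz)
  have key : ∀ x ∈ P, x ∈ Q → x ∉ Q₂ → x ∈ C[v₁] → ⁅u, v₁⁆ ∈ Phi Q := fun x hx hxQ hx₂ hx₁ => by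
    have e1 : ⁅x, v₂⁆ = ⁅u, v₁⁆ := (h₂.comm_eq hc₂ hu hx hu₂ hx₂).trans e
    have e2 : ⁅x, v₁ * v₂⁆ = ⁅x, v₁⁆ * (v₁ * ⁅x, v₂⁆ * v₁⁻¹) := by simp only [commutatorElement_def]; group
    rw [commutatorElement_eq_one_iff_mul_comm.2 (mem_cen1.1 hx₁), one_mul,
      mem_cen.1 (hc (commutator_mem_commutator hx hv₂)) _ hv₁, mul_inv_cancel_right, e1] at e2
    exact e2 ▸ hQ.der_le_Phi (commutator_mem_commutator hxQ hy)
  obtain ⟨x, hx, hx₂⟩ := SetLike.not_le_iff_exists.1 hne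
  by_cases hxQ : x ∈ Q
  · exact key x (h₁ hx) hxQ hx₂ (hc₁ hx)
  by_cases hv : v₁ ∈ Q₂
  · refine key (v₁⁻¹ * x) (mul_mem (inv_mem hv₁) (h₁ hx)) (h _ hv₁ _ (h₁ hx) hn₁ hxQ)
      (fun h' => hx₂ (by simpa using mul_mem hv h')) (mul_mem (inv_mem (self_mem_cen1 _)) (hc₁ hx))
  · have e1 : ⁅v₁, v₂⁆ = ⁅u, v₁⁆ := (h₂.comm_eq hc₂ hu hv₁ hu₂ hv).trans e
    have := hQ.pow_mem_Phi hy
    rwa [← e1, commutatorElement_def, i₁, i₂, mul_assoc (v₁ * v₂), ← sq]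

theorem npc_of_uniq (hS : Syl p P K) (hN : K ⊓ N(P) ≤ P) (hu : ∀ P₁, Syl p P₁ K → Z(P) ≤ P₁ → P₁ = P) :
    NPC p K := by
  refine Frobenius_normal_complement hS fun Q hQ hQ1 g hg hg' => ?_
  obtain ⟨S, hS', hZS⟩ := (hS.pi.mono (inf_le_left : Z(P) ≤ P)).exists_syl
    (le_inf (inf_le_left.trans hS.le) (center_le_cen hQ) : Z(P) ≤ K ⊓ C(Q))
  obtain ⟨P₁, hP₁, hSP⟩ := hS'.pi.exists_syl (hS'.le.trans inf_le_left)
  rw [hu P₁ hP₁ (hZS.trans hSP)] at hSP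
  have hn := subcent_nml_subnorm K Q
  have h1 : K ⊓ N(Q) ⊓ N(S) ≤ P := fun x hx => hN ⟨hx.1.1, cj_eq_self.1 (hu _ (hS.cj_mem hx.1.1)
    (hZS.trans (cj_eq_self.2 hx.2 ▸ cj_mono x hSP)))⟩
  refine (hg'.mem_of_relIndex hg hn.nrm ?_).2
  rw [(hS'.frattini hn).relIndex_left, piNat_compl_compl]
  exact (hS.pi.mono h1).relIndex _

theorem le_nrm_iSup {ι : Sort*} {f : ι → Subgroup G} (h : ∀ g ∈ X, ∀ i, ∀ w ∈ f i, g * w * g⁻¹ ∈ ⨆ i, f i) :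
    X ≤ N(⨆ i, f i) := fun g hg =>
  mem_nrm_of_cj_le (cj_le_iff.2 (iSup_le fun i w hw => mem_cj.2 (by rw [inv_inv]; exact h g hg i w hw)))

theorem two_case (hA2 : PiGrp {2}ᶜ A) (hS : Syl 2 P K) (hA : A ≤ N(P)) (h1 : P ≠ ⊥) (hc : ⁅P, P⁆ ≤ C(P))
    (hN : ∀ X, X ≠ ⊥ → X ⊴ P → A ≤ N(X) → K ⊓ N(X) ≤ P) : NPC 2 K := by
  have hNP := hN P h1 (Nml.refl P) hA
  refine npc_of_uniq hS hNP fun P₁ hP₁ hZ => by_contra fun hne => ?_
  have hZD : Z(P) ≤ P ⊓ P₁ := le_inf inf_le_left hZ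
  have hD : P ⊓ P₁ ⊴ P := nml_of_der_le ((le_inf (der_le P) hc).trans hZD) inf_le_left
  have hlt : P < K ⊓ N(P ⊓ P₁) := lt_of_le_of_ne (le_inf hS.le hD.nrm) fun e => by
    have h2 : P ⊓ P₁ < P₁ := inf_lt_right.2 fun h => hne (hP₁.max hS.pi h hS.le).symm
    exact (hP₁.pi.lt_subnorm h2).not_ge (le_inf ((inf_le_inf_right _ hP₁.le).trans e.ge) inf_le_left)
  obtain ⟨L, hL, hPL, hmin⟩ := exists_min (fun L => P < L) hlt
  have hm : MaxIn P L := ⟨hPL, hmin⟩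
  have hLK : L ≤ K := hL.trans inf_le_left
  have hSL : Syl 2 P L := hS.subl hPL.le hLK
  have hn : ¬ L ≤ N(P) := fun h => hPL.not_ge ((le_inf hLK h).trans hNP)
  have hZQ : Z(P) ≤ O[{2}](L) :=
    hZD.trans (pcore_max (hS.pi.mono inf_le_left) ⟨inf_le_left.trans hPL.le, hL.trans inf_le_right⟩)
  have hC : L ⊓ C(Ω[2](Z(P))) ≤ P := (inf_le_inf hLK (cen_le_nrm _)).trans
    (hN _ (hS.pi.Ohm_center_ne_bot h1) (Ohm_center_nml 2 P) (norms_Ohm 2 (norms_center hA)))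
  have hI := loc_idx hSL hm hn hc hZQ hC
  have hCV := loc_cen hSL hZQ hC
  have hZZ : Z(P) ≤ Z(O[{2}](L)) := le_inf hZQ (center_le_cen (pcore_le_syl hSL))
  have hQL : O[{2}](L) ⊴ L := pcore_nml _ _
  have hQP : O[{2}](L) ≤ P := pcore_le_syl hSL
  have hQ2 : PGrp 2 O[{2}](L) := pcore_pi _ _
  generalize O[{2}](L) = Q at *
  have hVL : Ω[2](Z(Q)) ⊴ L := hQL.center.Ohm 2
  have hVZ : Ω[2](Z(Q)) ≤ Z(Q) := Ohm_le _ _
  have hV2 := abelem_Ohm_center 2 Q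
  have hV1 : Ω[2](Z(Q)) ≠ ⊥ := ne_bot_of_le (Ohm_mono 2 hZZ) (hS.pi.Ohm_center_ne_bot h1)
  have hVm : ∀ z ∈ Z(Q), z ^ 2 = 1 → z ∈ Ω[2](Z(Q)) := fun z => mem_Ohm
  have hNV : N(Q) ≤ N(Ω[2](Z(Q))) := norms_Ohm 2 (norms_center le_rfl)
  generalize Ω[2](Z(Q)) = V at *
  have hVQ : V ≤ Q := hVZ.trans inf_le_left
  have hVP : V ⊴ P := hVL.mono (hVQ.trans hQP) hPL.le
  have hQV : Q ≤ C(V) := centsC (hVZ.trans inf_le_right)
  have hcj : ∀ a ∈ A, cj a V ⊴ P := fun a ha => cj_eq_self.2 (hA ha) ▸ hVP.cj a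
  by_cases hall : ∀ a ∈ A, cj a V ≤ Q
  · have hVW : V ≤ ⨆ a : A, cj (a : G) V := (cj_one V).ge.trans (le_iSup (fun a : A => cj (a : G) V) 1)
    refine hPL.not_ge ((le_inf hLK (le_nrm_iSup fun l hl a w hw => ?_)).trans (hN _ (ne_bot_of_le hVW hV1)
      ⟨iSup_le fun a => (hcj a a.2).le, norms_iSup fun a => (hcj a a.2).nrm⟩ (le_nrm_iSup fun b hb a w hw => ?_)))
    · have hz : ⁅l, w⁆ ∈ Z(Q) := comm_all hm hn hQL.center.nrm hQL.nrm (center_nml Q).nrm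
        ((commSS le_rfl hQP).trans ((le_inf (der_le P) hc).trans hZZ)) (commutator_mem_commutator hl (hall a a.2 hw))
      have e : l * w * l⁻¹ = ⁅l, w⁆ * w := by rw [commutatorElement_def, inv_mul_cancel_right]
      have h2 : ⁅l, w⁆ ^ 2 = 1 := by
        rw [← comm_sq' (mem_cen.1 hz.2 w (hall a a.2 hw)).symm, (hV2.cj a).pow hw, commutatorElement_one_right]
      exact e ▸ mul_mem (hVW (hVm _ hz h2)) (le_iSup (fun a : A => cj (a : G) V) a hw)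
    · refine le_iSup (fun a : A => cj (a : G) V) (⟨b, hb⟩ * a) ?_
      rw [coe_mul, ← cj_cj]
      exact conj_mem_cj.2 hw
  push Not at hall
  obtain ⟨a, ha, hna⟩ := hall
  have hna' : ¬ cj a⁻¹ V ≤ Q := fun h => hna ((le_inf ((hcj a ha).le.trans hPL.le) (by
    rw [← cj_cents (g := a⁻¹), cj_inv_cj]; exact centsC (h.trans hQV))).trans hCV)
  obtain ⟨v₁, hv₁, hn₁⟩ := SetLike.not_le_iff_exists.1 hna
  obtain ⟨v₂, hv₂, hn₂⟩ := SetLike.not_le_iff_exists.1 hna'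
  have hv₁P := (hcj a ha).le hv₁
  obtain ⟨u, hu, hz⟩ : ∃ u ∈ V, ⁅u, v₁⁆ ≠ 1 := by
    by_contra h
    push Not at h
    exact hn₁ (hCV ⟨hPL.le hv₁P, mem_cen.2 fun u hu => commutatorElement_eq_one_iff_mul_comm.1 (h u hu)⟩)
  have hc₁ : cj a Q ≤ C[v₁] := (cj_cents.2 hQV).trans (cen_le_cen1 hv₁)
  have hne' : ¬ cj a Q ≤ cj a⁻¹ Q := fun h => by
    rw [le_cj_iff, inv_inv, cj_cj, ← sq] at h
    have h2 : a ∈ N(Q) := (hA2.piElt ha).mem_of_pow_mem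
      (piNat_compl_compl.2 ((piNat_prime Nat.prime_two).2 rfl)) (mem_nrm_of_cj_le h)
    exact hna (by rw [cj_eq_self.2 (hNV h2)]; exact hVQ)
  have hzP := partner hc hQ2 hI (cj_le_of_nrm (hA ha) hQP) (hI.cj (inv_mem (hA ha))) (hVP.le hu) hv₁P
    ((hcj _ (inv_mem ha)).le hv₂) hn₁ hn₂ ((hV2.cj _).pow hv₁) ((hV2.cj _).pow hv₂) (hQV.trans (cen_le_cen1 hu)) hc₁
    ((cj_cents.2 hQV).trans (cen_le_cen1 hv₂)) hz hne'
  have hzZ : ⁅u, v₁⁆ ∈ Z(P) := (le_inf (der_le P) hc) (commutator_mem_commutator (hVP.le hu) hv₁P)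
  have hv₁c : v₁ ∈ C(Phi Q) := le_cen1.1 ((hQ2.Phi_le_iff Nat.prime_two).2
    ⟨(der_mono hQP).trans (hc.trans (cen_le_cen1 hv₁P)), fun x hx => by
      have h3 := hc (commutator_mem_commutator (hQP hx) hv₁P)
      rw [mem_cen1, ← commutatorElement_eq_one_iff_mul_comm, comm_sq (mem_cen.1 h3 x (hQP hx)).symm,
        ← comm_sq' (mem_cen.1 h3 _ hv₁P).symm, (hV2.cj _).pow hv₁, commutatorElement_one_right]⟩)
  have hT : L ≤ C(Phi Q ⊓ Z(Q)) := by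
    refine ker_all hm hn (norms_cent (hQL.Phi.inf hQL.center).nrm) fun x hx => ?_
    have hQT : Q ≤ C(Phi Q ⊓ Z(Q)) := centsC (inf_le_right.trans inf_le_right)
    by_cases hxQ : x ∈ Q
    · exact hQT hxQ
    · simpa using mul_mem (cen_anti inf_le_left hv₁c) (hQT (hI _ hv₁P _ hx hn₁ hxQ))
  have hLz : L ≤ C[⁅u, v₁⁆] := hT.trans (cen_le_cen1 ⟨hzP, hZZ hzZ⟩)
  have hLV : ⁅L, V⁆ ≤ ⟪⁅u, v₁⁆⟫ := by
    refine comm_all hm hn (norms_zpowers_of_cen1 hLz) hVL.nrm (hVL.le.trans (norms_zpowers_of_cen1 hLz))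
      (commutator_le.2 fun x hx v hv => ?_)
    have hQv := hQV.trans (cen_le_cen1 hv)
    by_cases hxQ : x ∈ Q
    · exact commutatorElement_eq_one_iff_mul_comm.2 (mem_cen1.1 (hQv hxQ)) ▸ one_mem _
    rw [hI.comm_eq hQv hv₁P hx hn₁ hxQ, ← commutatorElement_inv v v₁]
    refine inv_mem ?_
    by_cases hvQ : v ∈ cj a Q
    · exact commutatorElement_eq_one_iff_mul_comm.2 (mem_cen1.1 (hc₁ hvQ)) ▸ one_mem _
    · rw [(hI.cj (hA ha)).comm_eq hc₁ (hVP.le hu) (hVP.le hv) (not_mem_of_comm_ne hc₁ hz) hvQ]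
      exact mem_zpowers _
  have hz2 : ⁅u, v₁⁆ ^ 2 = 1 := by
    rw [← comm_sq (mem_cen.1 hzZ.2 u (hVP.le hu)).symm, hV2.pow hu, commutatorElement_one_left]
  refine hPL.ne (hSL.eq_of_piGrp (piGrp_iff_forall.2 fun l hl => ?_))
  have h4 : l ^ 2 ∈ Q := hCV ⟨pow_mem hl 2, mem_cen.2 fun v hv => by
    have h5 : ⁅v, l⁆ ∈ ⟪⁅u, v₁⁆⟫ := hLV (commC V L ▸ commutator_mem_commutator hv hl)
    rw [← commutatorElement_eq_one_iff_mul_comm,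
      comm_sq' (mem_cen1.1 (cen1_le_cen1_of_mem_zpowers h5 (hLz hl))).symm, (abelem_zpowers hz2).pow h5]⟩
  obtain ⟨k, hk⟩ := (hQ2.piElt h4).exists_pow
  exact (pElt_iff Nat.prime_two).2 ⟨k + 1, by rw [pow_succ', pow_mul, hk]⟩

theorem sol_of_nil_max (n : ℕ) : ∀ {G : Type u} [Group G] [Finite G] {A K M : Subgroup G}, #K = n → A ≤ N(K) →
    Cop K A → M < K → A ≤ N(M) → (∀ H, M ≤ H → H < K → A ≤ N(H) → H = M) → Nil M → ClsLE 2 O[{2}](M) → Sol K := by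
  induction n using Nat.strong_induction_on with
  | _ n ih =>
  intro G _ _ A K M e hn hc hM hA hmax hnil hcls
  by_cases h0 : ∃ X, X ≤ M ∧ K ≤ N(X) ∧ A ≤ N(X) ∧ X ≠ ⊥
  · obtain ⟨X, hXM, hKX, hAX, h1⟩ := h0
    have hX : X ⊴ K := ⟨hXM.trans hM.le, hKX⟩
    have hXM' : X ⊴ M := hX.mono hXM hM.le
    refine sol_of_quo hKX (hnil.mono hXM).sol (ih _ (e ▸ card_quo_lt hX h1) rfl (quo_norms X hn) (hc.quo X)
      (quo_lt_quo hKX hXM hM) (quo_norms X hA) (fun U hMU hU hAU => ?_) (hnil.quo X) ?_)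
    · rw [← hmax qpre(X, U) ((quo_le_iff hXM'.nrm).1 hMU) (by
        have := (qpre_lt_qpre (K := X)).2 hU
        rwa [qpre_quo_of_nml hX] at this) (norms_qpre hAX hAU), quo_qpre]
    · rw [← (hnil.quo X).hall_eq ((hnil.pcore_hall _).quo hXM'.nrm)]
      exact hcls.quo ((pcore_le _ _).trans hXM'.nrm)
  push Not at h0
  have hN : ∀ X, X ≠ ⊥ → X ⊴ M → A ≤ N(X) → K ⊓ N(X) = M := fun X h1 hX hAX =>
    hmax _ (le_inf hM.le hX.nrm) (inf_lt_left.2 fun h => h1 (h0 X hX.le h hAX)) (normsI hn (norms_norm hAX))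
  by_cases h1 : M = ⊥
  · obtain ⟨p, hp, hd⟩ := exists_prime_dvd_card (ne_bot_of_gt hM)
    obtain ⟨P, hP, hAP⟩ := coprime_Sylow_exists p hn hc (sol_or_sol hc)
    rcases hP.le.eq_or_lt with e' | hlt
    · exact (e' ▸ hP.pi : PGrp p K).sol
    · exact absurd ((hmax P (h1 ▸ bot_le) hlt hAP).trans h1) (hP.syl_ne_bot (mem_piOf.2 ⟨hp, hd⟩))
  have hSyl : ∀ p, p ∈ piOf M → Syl p O[{p}](M) K := fun p hp => (hnil.pcore_hall _).syl_of_nrm_le hM.le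
    (hN _ (hnil.pcore_ne_bot (π := {p}) hp rfl) (pcore_nml _ _) (norms_pcore _ hA)).le
  by_cases h2 : PGrp 2 M
  · have hp : 2 ∈ piOf M := h2.mem_piOf h1 le_rfl
    have hS := hSyl 2 hp
    rw [h2.pcore_eq] at hS hcls
    exact sol_of_npc_two (two_case (hc.p' (piOf_mono hM.le hp)) hS hA h1 (clsLE_two.1 hcls)
      fun X h1 hX hAX => (hN X h1 hX hAX).le)
  obtain ⟨p, hp, hp2, hd⟩ := exists_odd_prime h2
  have hpM : p ∈ piOf M := mem_piOf.2 ⟨hp, hd⟩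
  have hS := hSyl p hpM
  have hP1 := hnil.pcore_ne_bot (π := {p}) hpM rfl
  have hAP := norms_pcore {p} hA
  obtain ⟨Z, hZ, hZ1, hZn, hZ2⟩ := npc_of_ZJ hp hp2 hS hP1
  have hsd := (hZ2 (by
    rw [hN Z hZ1 ⟨hZ.trans (pcore_le _ _), (pcore_nrm _ _).trans hZn⟩ (hAP.trans hZn)]; exact hnil.npc p)).sd hS
  have hR : O[{p}ᶜ](K) ⊴ K := pcore_nml _ _
  have hAR : A ≤ N(O[{p}ᶜ](K)) := norms_pcore _ hn
  have hR' : PiGrp {p}ᶜ O[{p}ᶜ](K) := pcore_pi _ _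
  have hPM : O[{p}](M) ⊴ M := pcore_nml _ _
  generalize O[{p}ᶜ](K) = R at *
  generalize O[{p}](M) = P at *
  have hlt : R < K := lt_of_le_of_ne hR.le fun e' => hP1 (by rw [← hsd.inf, e', inf_eq_right.2 hS.le])
  have hMe : MulEq (M ⊓ R) P M := by
    have := hsd.mulEq.inf_right hPM.le
    rwa [inf_eq_left.2 hM.le] at this
  refine hsd.sol (ih _ (e ▸ card_lt hlt) (M := M ⊓ R) rfl (sup_le hsd.nrm hAR)
    ((hR'.cop' hS.pi).sup_right (hc.mono_left hR.le) hAP) (inf_lt_right.2 fun h => hM.not_ge ?_)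
    (normsI (sup_le (norms_of_le hPM.le) hA) (sup_le hsd.nrm hAR)) (fun H hMH hH hAH => ?_) (hnil.mono inf_le_left)
    (hcls.mono (hnil.pcore_mono _ inf_le_left))) hS.pi.sol
  · rw [← hsd.sup]; exact sup_le h hPM.le
  · have hPH := le_sup_left.trans hAH
    have := hmax (H ⊔ P) (hMe.sup ▸ sup_le_sup_right hMH _) (lt_of_le_of_ne (sup_le (hH.le.trans hR.le) hS.le)
      fun e' => hH.not_ge (by
        have := inf_sup_left hPH hH.le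
        rw [e', hsd.inf, sup_bot_eq, inf_eq_left.2 hR.le] at this
        exact this.le)) (normsY (le_sup_right.trans hAH) hAP)
    exact le_antisymm (le_inf (this ▸ le_sup_left) hH.le) hMH

theorem clsLE_iff {n : ℕ} (h : Nil H) : ClsLE n H ↔ Group.nilpotencyClass H ≤ n := by
  have : Group.IsNilpotent H := h
  rw [ClsLE, ← Subgroup.top_subtype_lowerCentralSeries, map_eq_bot_iff_of_injective _ H.subtype_injective,
    Subgroup.lowerCentralSeries_eq_bot_iff_nilpotencyClass_le]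

theorem isSolvable_of_sol_top (h : Sol (⊤ : Subgroup G)) : Group.IsSolvable G :=
  have : Group.IsSolvable (⊤ : Subgroup G) := h
  Group.isSolvable_of_surjective (f := (⊤ : Subgroup G).subtype) fun x => ⟨⟨x, mem_top x⟩, rfl⟩

theorem sol_of_nil_coatom (hM : IsCoatom M) (hnil : Nil M) (hcls : ClsLE 2 O[{2}](M)) : Group.IsSolvable G :=
  isSolvable_of_sol_top (sol_of_nil_max _ (A := ⊥) rfl bot_le (cop_bot_right _) hM.1.lt_top bot_le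
    (fun H h1 h2 _ => (hM.le_iff.1 h1).resolve_left h2.ne) hnil hcls)

open H28 in
theorem sol_of_nil_max_act {A : Type*} [Group A] [Finite A] [MulDistribMulAction A G]
    (hcop : (Nat.card A).Coprime (Nat.card G)) (hM : M ≠ ⊤) (hA : ∀ a : A, ∀ m ∈ M, a • m ∈ M)
    (hmax : ∀ H : Subgroup G, M ≤ H → H ≠ ⊤ → (∀ a : A, ∀ h ∈ H, a • h ∈ H) → H = M) (hnil : Nil M)
    (hcls : ClsLE 2 O[{2}](M)) : Group.IsSolvable G := by
  refine isSolvable_of_sol_top ((sol_gl (A := A)).1 (sol_of_nil_max _ (M := gl A M) rfl (al_norms_top ⊤)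
    (cop_gl_al hcop _ _) (gl_lt_gl.2 hM.lt_top) (al_top_norms_iff.2 hA) (fun U h1 h2 h3 => ?_) (nil_gl.2 hnil) ?_))
  · obtain ⟨H, -, rfl⟩ := exists_gl h2.le
    rw [hmax H (gl_le_gl.1 h1) (gl_lt_gl.1 h2).ne (al_top_norms_iff.1 h3)]
  · rw [← gl_pcore, clsLE_two, ← gl_comm, gl_cents_iff]
    exact clsLE_two.1 hcls

end Cfsg.Agent.H23
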