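import Mathlib
import Cfsg.Prelude.Def_Transfer
import Cfsg.Agent.H12.Ae0
import Cfsg.Agent.H29.ES

/-!
The extraspecial subgroup `2^{1+4}` of the centralizer of a `2⁴`-involution of `A₈`.
-/

set_option autoImplicit false
set_option linter.unusedVariables false

namespace Cfsg.Agent.H12.Ae

open Subgroup Equiv
open scoped commutatorElement

theorem pQ_gen {G : Type*} [Group G] {k : ℕ} (n : ℕ) (g : Fin k → G) (φ : ℕ → G) (T : ℕ)
    (hn0 : 0 < n) (h0 : φ 0 = 1) (hg : ∀ a, ∃ b, g a * g b = 1)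
    (hn : ∀ (a : Fin k) (i : Fin n), g a * φ i = φ (T / 64 ^ (a.val * 64 + i.val) % 64 % n)) :
    ∀ x ∈ closure (Set.range g), ∃ i : Fin n, x = φ i := by
  intro x hx
  have st : ∀ (a : Fin k) (y : G), (∃ i : Fin n, y = φ i) → ∃ i : Fin n, g a * y = φ i := by
    rintro a _ ⟨i, rfl⟩
    exact ⟨⟨_, Nat.mod_lt _ hn0⟩, hn a i⟩
  induction hx using closure_induction_left with
  | one => exact ⟨⟨0, hn0⟩, h0.symm⟩
  | mul_left x hx y _ ih => obtain ⟨a, rfl⟩ := hx; exact st a y ih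
  | inv_mul_cancel x hx y _ ih =>
    obtain ⟨a, rfl⟩ := hx
    obtain ⟨b, hb⟩ := hg a
    rw [inv_eq_of_mul_eq_one_right hb]; exact st b y ih

theorem pQ_card {G : Type*} [Group G] (n : ℕ) (H : Subgroup G) (φ : ℕ → G) (key : G → ℕ)
    (hm : ∀ i, φ i ∈ H) (hs : ∀ x ∈ H, ∃ i : Fin n, x = φ i)
    (hk : (List.ofFn fun i : Fin n => key (φ i)).Nodup) : Nat.card H = n := by
  have hi := List.nodup_ofFn.1 hk
  have : Function.Bijective (fun i : Fin n => (⟨φ i, hm i⟩ : H)) := by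
    refine ⟨fun i j e => hi (congrArg (fun x : H => key x) e), fun x => ?_⟩
    obtain ⟨i, e⟩ := hs x x.2
    exact ⟨i, Subtype.ext e.symm⟩
  rw [← Nat.card_eq_of_bijective _ this, Nat.card_eq_fintype_card, Fintype.card_fin]

/-- `x` or `1` -/
def pQb (n : ℕ) (x : alternatingGroup (Fin 8)) : alternatingGroup (Fin 8) := if n = 0 then 1 else x

theorem pQb_mem {H : Subgroup (alternatingGroup (Fin 8))} (n : ℕ) {x} (h : x ∈ H) : pQb n x ∈ H := by
  unfold pQb; split_ifs; exacts [one_mem _, h]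

def pQf5 (i : ℕ) : alternatingGroup (Fin 8) :=
  pQb (i % 2) u1 * pQb (i / 2 % 2) w1 * pQb (i / 4 % 2) r0 * pQb (i / 8 % 2) (u2 * w2) *
    pQb (i / 16 % 2) s0
def pQf6 (i : ℕ) : alternatingGroup (Fin 8) := pQf5 i * pQb (i / 32 % 2) u2
def pQf7 (i : ℕ) : alternatingGroup (Fin 8) :=
  pQb (i % 2) u1 * pQb (i / 2 % 2) u2 * pQb (i / 4 % 2) w1 * pQb (i / 8 % 2) w2 *
    pQb (i / 16 % 2) z0 * pQb (i / 32 % 2) (z0 * z0)
def pQg5 : Fin 5 → alternatingGroup (Fin 8) := ![u1, w1, r0, u2 * w2, s0]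
def pQg6 : Fin 6 → alternatingGroup (Fin 8) := ![u1, w1, r0, u2 * w2, s0, u2]
def pQg7 : Fin 6 → alternatingGroup (Fin 8) := ![u1, u2, w1, w2, z0, z0 * z0]
def pQkey (x : alternatingGroup (Fin 8)) : ℕ :=
  (x.1 0).val + 8 * (x.1 2).val + 64 * (x.1 3).val + 512 * (x.1 5).val
def pQt : alternatingGroup (Fin 8) := a8 (swap 3 5 * swap 5 0 * swap 4 6 * swap 6 1)

theorem pQ_s5 : ∀ x ∈ closure (Set.range pQg5), ∃ i : Fin 32, x = pQf5 i :=
  pQ_gen 32 pQg5 pQf5 0x3cd38c2c92881c51840c10807dd79c6d96985d55944d14900000000000000000000000000000000000000000000000005155974d245071d79f6da6581051870c204030d38f2ca2480000000000000000000000000000000000000000000000006da6587de75c4d24505d65542ca2483ce34c0c20401c614400000000000000000000000000000000000000000000000075c7de6586da5545d64504d234c3ce2482ca1441c60400c200000000000000000000000000000000000000000000000079f71d69b61959751549341138f30d28b209187105083001 (by norm_num) (by decide +kernel)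
    (fun a => ⟨a, by revert a; decide +kernel⟩) (by decide +kernel)

theorem pQ_s6 : ∀ x ∈ closure (Set.range pQg6), ∃ i : Fin 64, x = pQf6 i :=
  pQ_gen 64 pQg6 pQf6 0x5975154d245079f71d6da65838f30d2ca2481871050c2040db7d35cf2c70fbff3defae78bafb2daeaa689a79258e2860bedbacae9aa89e59a48e18a0ffdfbcef9eb8df5db4cf1cb03cd38c2c92881c51840c10807dd79c6d96985d55944d1490d35db7cf2c70f3dfbfefae789259a78e2860b2dbafaeaa685155974d245071d79f6da6581051870c204030d38f2ca248efae78ffef7ccf2c70df6d74aeaa68beeb6c8e28609e69646da6587de75c4d24505d65542ca2483ce34c0c20401c6144f7cffee78efad74df6c70cf2b6cbeea68aea9649e68608e275c7de6586da5545d64504d234c3ce2482ca1441c60400c2fbff3debbe39db7d35cb3c31bafb2daaba299a79258a382179f71d69b61959751549341138f30d28b209187105083001 (by norm_num) (by decide +kernel)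
    (fun a => ⟨a, by revert a; decide +kernel⟩) (by decide +kernel)

theorem pQ_s7 : ∀ x ∈ closure (Set.range pQg7), ∃ i : Fin 48, x = pQf7 i :=
  pQ_gen 48 pQg7 pQf7 0x5d65547de75c6da6584d24501c61443ce34c2ca2480c20409e6964beeb6caeaa688e28600000000000000000000000002ca2481c61443ce34c0c2040aeaa689e6964beeb6c8e28606da6585d65547de75c4d24500000000000000000000000009e69648e2860beeb6caeaa685d65544d24507de75c6da6581c61440c20403ce34c2ca248000000000000000000000000aeaa68beeb6c8e28609e69646da6587de75c4d24505d65542ca2483ce34c0c20401c6144000000000000000000000000b6cbeea68aea9649e68608e275c7de6586da5545d64504d234c3ce2482ca1441c60400c2000000000000000000000000bafb2daaba299a79258a382179f71d69b61959751549341138f30d28b209187105083001 (by norm_num) (by decide +kernel)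
    (by decide +kernel) (by decide +kernel)

theorem pQ_m5 {H : Subgroup (alternatingGroup (Fin 8))} (h1 : u1 ∈ H) (h2 : w1 ∈ H) (h3 : r0 ∈ H)
    (h4 : u2 * w2 ∈ H) (h5 : s0 ∈ H) (i : ℕ) : pQf5 i ∈ H :=
  mul_mem (mul_mem (mul_mem (mul_mem (pQb_mem _ h1) (pQb_mem _ h2)) (pQb_mem _ h3))
    (pQb_mem _ h4)) (pQb_mem _ h5)

theorem pQ_c5 : Nat.card (closure (Set.range pQg5)) = 32 := by
  have m : ∀ a, pQg5 a ∈ closure (Set.range pQg5) := fun a => subset_closure ⟨a, rfl⟩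
  refine pQ_card 32 _ pQf5 pQkey (pQ_m5 (m 0) (m 1) (m 2) (m 3) (m 4)) pQ_s5 ?_
  rw [show (List.ofFn fun i : Fin 32 => pQkey (pQf5 i)) = [2768, 3344, 2809, 3385, 2833, 3281, 2872, 3320, 1858, 2434, 1871, 2447, 2378, 1930, 2375, 1927, 1067, 1076, 3691, 3700, 1132, 1139, 3628, 3635, 157, 166, 989, 998, 677, 670, 485, 478] by decide +kernel]
  decide +kernel

theorem pQ_c6 : Nat.card (closure (Set.range pQg6)) = 64 := by
  have m : ∀ a, pQg6 a ∈ closure (Set.range pQg6) := fun a => subset_closure ⟨a, rfl⟩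
  refine pQ_card 64 _ pQf6 pQkey
    (fun i => mul_mem (pQ_m5 (m 0) (m 1) (m 2) (m 3) (m 4) i) (pQb_mem _ (m 5))) pQ_s6 ?_
  rw [show (List.ofFn fun i : Fin 64 => pQkey (pQf6 i)) = [2768, 3344, 2809, 3385, 2833, 3281, 2872, 3320, 1858, 2434, 1871, 2447, 2378, 1930, 2375, 1927, 1067, 1076, 3691, 3700, 1132, 1139, 3628, 3635, 157, 166, 989, 998, 677, 670, 485, 478, 1872, 2448, 1913, 2489, 2385, 1937, 2424, 1976, 2754, 3330, 2767, 3343, 2826, 3274, 2823, 3271, 171, 180, 1003, 1012, 684, 691, 492, 499, 1053, 1062, 3677, 3686, 1125, 1118, 3621, 3614] by decide +kernel]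
  decide +kernel

theorem pQ_es : H29.ES (closure (Set.range pQg5)) (u1 * w1) := by
  have m : ∀ a, pQg5 a ∈ closure (Set.range pQg5) := fun a => subset_closure ⟨a, rfl⟩
  have cen : ∀ x ∈ closure (Set.range pQg5),
      x ∈ centralizer (closure (Set.range pQg5) : Set (alternatingGroup (Fin 8))) →
      x = 1 ∨ x = u1 * w1 := by
    intro x hx hc
    have hc' : ∀ a, pQg5 a * x = x * pQg5 a := fun a => mem_centralizer_iff.1 hc _ (m a)
    obtain ⟨i, rfl⟩ := pQ_s5 x hx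
    clear hx hc
    revert i
    decide +kernel
  refine ⟨⟨by decide +kernel, by decide +kernel, mul_mem (m 0) (m 1), fun x hx => ?_,
    fun x hx hc _ => cen x hx hc⟩, cen, fun h => ?_⟩
  · obtain ⟨i, rfl⟩ := pQ_s5 x hx
    clear hx
    revert i
    decide +kernel
  · have := mem_centralizer_iff.1 (h (m 2)) _ (m 3)
    revert this
    decide +kernel

theorem pQ : ∃ Q0 : Subgroup (alternatingGroup (Fin 8)), Nat.card Q0 = 32 ∧
    Cfsg.IsExtraspecial 2 Q0 ∧ u1 ∈ Q0 ∧ u2 * w2 ∈ Q0 ∧ s0 ∈ Q0 ∧ u1 * w1 ∈ Q0 ∧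
    Q0 ≤ ⁅centralizer {u1 * w1}, centralizer {u1 * w1}⁆ ∧
    64 ∣ Nat.card (centralizer ({u1 * w1} : Set (alternatingGroup (Fin 8)))) ∧
    ∀ g ∈ closure {u1, u2, w1, w2, z0}, g ^ 6 = 1 := by
  have m : ∀ a, pQg5 a ∈ closure (Set.range pQg5) := fun a => subset_closure ⟨a, rfl⟩
  have c6 : ∀ a, pQg6 a ∈ centralizer ({u1 * w1} : Set (alternatingGroup (Fin 8))) := fun a => by
    rw [mem_centralizer_singleton_iff]; revert a; decide +kernel
  have ct : pQt ∈ centralizer ({u1 * w1} : Set (alternatingGroup (Fin 8))) := by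
    rw [mem_centralizer_singleton_iff]; decide +kernel
  have cm : ∀ i, ⁅pQf5 i, pQt⁆ ∈ ⁅centralizer ({u1 * w1} : Set (alternatingGroup (Fin 8))),
      centralizer ({u1 * w1} : Set (alternatingGroup (Fin 8)))⁆ := fun i =>
    commutator_mem_commutator (pQ_m5 (c6 0) (c6 1) (c6 2) (c6 3) (c6 4) i) ct
  refine ⟨closure (Set.range pQg5), pQ_c5, pQ_es.isExtraspecial, m 0, m 3, m 4,
    mul_mem (m 0) (m 1), ?_, ?_, fun g hg => ?_⟩
  · rw [closure_le]
    rintro _ ⟨a, rfl⟩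
    have e : ∀ a : Fin 5, pQg5 a =
        ⁅pQf5 (![0, 8, 0, 0, 0] a), pQt⁆ * ⁅pQf5 (![5, 13, 1, 24, 8] a), pQt⁆ := by
      simp only [commutatorElement_def]
      decide +kernel
    rw [e a]
    exact mul_mem (cm _) (cm _)
  · rw [← pQ_c6]
    refine card_dvd_of_le ?_
    rw [closure_le]
    rintro _ ⟨a, rfl⟩
    exact c6 a
  · have m7 : ∀ a, pQg7 a ∈ closure (Set.range pQg7) := fun a => subset_closure ⟨a, rfl⟩
    have : closure {u1, u2, w1, w2, z0} ≤ closure (Set.range pQg7) := by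
      rw [closure_le]
      rintro _ (rfl | rfl | rfl | rfl | rfl)
      exacts [m7 0, m7 1, m7 2, m7 3, m7 4]
    obtain ⟨i, rfl⟩ := pQ_s7 g (this hg)
    clear hg
    revert i
    decide +kernel

end Cfsg.Agent.H12.Ae
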