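import Cfsg.Agent.H4.GWC

/-! Groups with cyclic Sylow `2`-intersections: the elementary part. -/

set_option autoImplicit false
set_option linter.unusedSectionVars false
set_option linter.unusedVariables false

namespace Cfsg.Agent.H23

open Cfsg Subgroup Cfsg.Agent.FT Cfsg.Agent.GW
open scoped commutatorElement

variable {G G' : Type*} [Group G] [Finite G] [Group G'] [Finite G'] {A B H K N P S T U : Subgroup G}

/-- distinct Sylow `2`-subgroups of `H` have cyclic intersection -/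
def CI (H : Subgroup G) : Prop := ∀ S T, Syl 2 S H → Syl 2 T H → S ≠ T → Cyc (S ⊓ T)

theorem ci_top : CI (⊤ : Subgroup G) ↔
    ∀ S T : Sylow 2 G, S ≠ T → IsCyclic ↥((S : Subgroup G) ⊓ (T : Subgroup G)) := by
  refine ⟨fun h S T e => h _ _ (syl_top Nat.prime_two S) (syl_top Nat.prime_two T) fun k => e (Sylow.ext k),
    fun h S T hS hT e => ?_⟩
  obtain ⟨S, rfl⟩ := (syl_top_iff Nat.prime_two).1 hS
  obtain ⟨T, rfl⟩ := (syl_top_iff Nat.prime_two).1 hT
  exact h S T fun k => e (k ▸ rfl)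

namespace CI

variable (h : CI H)
include h

theorem le (hS : Syl 2 S H) (hU : U ≤ S) (hn : ¬ Cyc U) (hP : PGrp 2 P) (hH : P ≤ H) (hle : U ≤ P) : P ≤ S := by
  obtain ⟨T, hT, k⟩ := hP.exists_syl hH
  by_cases e : S = T
  · exact e ▸ k
  · exact (hn ((h S T hS hT e).mono (le_inf hU (hle.trans k)))).elim

theorem nrm (hS : Syl 2 S H) (hU : U ≤ S) (hn : ¬ Cyc U) : H ⊓ N(U) ≤ N(S) := fun g hg =>
  mem_nrm_of_cj_le (h.le hS hU hn (hS.pi.cj g) (hS.cj_mem hg.1).le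
    (by nth_rewrite 1 [← cj_of_mem_nrm hg.2]; exact cj_mono g hU))

theorem mono (hK : K ≤ H) : CI K := fun S T hS hT e => by_contra fun hn => by
  obtain ⟨R, hR, k⟩ := hS.pi.exists_syl (hS.le.trans hK)
  have k2 := h.le hR (inf_le_left.trans k) hn hT.pi (hT.le.trans hK) inf_le_right
  have k3 := (hR.pi.mono (sup_le k k2))
  exact e ((hS.max k3 le_sup_left (sup_le hS.le hT.le)).symm.trans
    (hT.max k3 le_sup_right (sup_le hS.le hT.le)))

theorem map (f : G →* G') : CI (H.map f) := fun S T hS hT e => by_contra fun hn => by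
  have k0 : ∀ U ≤ H.map f, (H ⊓ U.comap f).map f = U := fun U hU =>
    le_antisymm (map_le_iff_le_comap.2 inf_le_right) fun u hu =>
      let ⟨x, hx, e⟩ := hU hu; ⟨x, ⟨hx, mem_comap.2 (e.symm ▸ hu)⟩, e⟩
  have k1 : ∀ U ≤ H.map f, PGrp 2 U → ∀ P, Syl 2 P (H ⊓ U.comap f) → P.map f = U := fun U hU h2 P hP =>
    (k0 U hU ▸ hP.map f).eq_of_piGrp h2
  obtain ⟨P, hP⟩ := exists_syl 2 (H ⊓ (S ⊓ T).comap f)
  have k2 : ¬ Cyc P := fun c => hn (k1 _ (inf_le_left.trans hS.le) (hS.pi.inf_left _) P hP ▸ c.map f)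
  obtain ⟨R, hR, k3⟩ := hP.pi.exists_syl (hP.le.trans inf_le_left)
  have k4 : ∀ U, Syl 2 U (H.map f) → S ⊓ T ≤ U → R.map f = U := fun U hU k => by
    obtain ⟨Q, hQ, k5⟩ := hP.pi.exists_syl (hP.le.trans (inf_le_inf_left H (comap_mono k)))
    exact hU.max (hR.map f).pi (k1 U hU.le hU.pi Q hQ ▸ map_mono
      (h.le hR k3 k2 hQ.pi (hQ.le.trans inf_le_left) k5)) (hR.map f).le
  exact e ((k4 S hS inf_le_left).symm.trans (k4 T hT inf_le_right))

theorem sol_of_nrm (hS : Syl 2 S H) (hn : H ≤ N(S)) : Sol H :=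
  sol_of_quo hn hS.pi.sol (sol_odd (odd_iff_p'.2 (hS.quo_pi' hn)))

/-- a subgroup normalising a noncyclic `2`-subgroup is solvable -/
theorem sol (hU : U ≤ H) (h2 : PGrp 2 U) (hn : ¬ Cyc U) (hA : A ≤ H) (hN : A ≤ N(U)) : Sol A := by
  obtain ⟨S, hS, k⟩ := h2.exists_syl hU
  have k1 := h.nrm hS k hn
  exact ((h.mono inf_le_left).sol_of_nrm hS.subnorm inf_le_right).mono (le_inf hA ((le_inf hA hN).trans k1))

theorem cyc (hn : ¬ Sol H) : Cyc O[{2}](H) := by_contra fun c =>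
  hn (h.sol (pcore_le _ _) (pcore_pi _ _) c le_rfl (pcore_nrm _ _))

end CI

theorem pGrp_of_cyc (hs : Sol N) (hO : Od(N) = ⊥) (hc : Cyc O[{2}](N)) : PGrp 2 N := by
  refine piGrp_iff_forall.2 fun x hx => constt_compl_eq_one_iff.1 ?_
  have h1 := piElt_constt {2}ᶜ x
  have h2 := constt_mem {2}ᶜ hx
  exact h1.eq_one_of_mem' (pcore_pi _ N) (cent_sub_pcore hs hO ⟨h2, cents_of_cyc_two hc (pcore_pi _ _)
    (odd_zpowers h1) (zpowers_le.2 (pcore_nrm _ _ h2)) (mem_zpowers _)⟩)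

theorem CI.closed (h : CI H) (hs : Sol H) (hO : Od(H) = ⊥) (hS : Syl 2 S H) : H ≤ N(S) := by
  by_cases c : Cyc O[{2}](H)
  · rw [hS.eq_of_piGrp (pGrp_of_cyc hs hO c)]; exact le_nrm H
  · exact (le_inf le_rfl (pcore_nrm _ _)).trans (h.nrm hS (pcore_le_syl hS) c)

theorem CI.le_pcore (h : CI H) (hn : ¬ Sol H) (hO : Od(H) = ⊥) (hN : N ⊴ H) (hs : Sol N) : N ≤ O[{2}](H) :=
  pcore_max (pGrp_of_cyc hs (eq_bot_of_le (pcore_mono_nml _ hN) hO)
    ((h.cyc hn).mono (pcore_mono_nml _ hN))) hN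

theorem CI.surj (h : CI (⊤ : Subgroup G)) (f : G →* G') (hf : Function.Surjective f) : CI (⊤ : Subgroup G') :=
  map_top_of_surjective f hf ▸ h.map f

end Cfsg.Agent.H23
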