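import Cfsg.Agent.H23.CI
import Cfsg.Agent.H8.GoCor
import Cfsg.Agent.AC.Main
import Cfsg.Agent.AC.App
import Cfsg.Agent.JR.Uniq
import Cfsg.Agent.GW.Sv
import Cfsg.Agent.GW.Cons1
import Cfsg.Agent.H20.Simple
import Cfsg.Agent.H10.PSL2Max3

/-! Groups with cyclic Sylow `2`-intersections: Herzog's theorems. -/

set_option autoImplicit false
set_option linter.unusedSectionVars false
set_option linter.unusedVariables false
set_option linter.style.haveILetI false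

namespace Cfsg.Agent.H23

open Cfsg Subgroup Cfsg.Agent.FT Cfsg.Agent.GW Cfsg.Agent.GO MulAction
open scoped commutatorElement

universe u

variable {G : Type u} [Group G] [Finite G] {E H K L N P R S T X Z : Subgroup G} {a d t : G}

theorem CI.top (h : CI E) : CI (⊤ : Subgroup E) := fun S T hS hT e => by
  have hi := E.subtype_injective
  have k := h _ _ (by simpa only [map_subtype_top] using hS.map E.subtype)
    (by simpa only [map_subtype_top] using hT.map E.subtype) fun k => e (map_injective hi k)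
  rw [← Subgroup.map_inf _ _ _ hi] at k
  exact isCyclic_of_surjective _ (subtypeEquiv _).symm.surjective

theorem CI.mem_cen (h : CI H) (hT : Syl 2 T H) (hR : Syl 2 R H) (hd : Invo d) (h1 : d ∈ Z(T)) (h2 : d ∈ R) :
    d ∈ C(R) := by
  obtain ⟨z, hz, iz⟩ := exists_invo ((hR.pi.inf_left _).dvd (hR.pi.center_ne_bot (ne_bot_of_mem h2 hd.ne)))
  by_cases e : z = d
  · exact e ▸ hz.2
  have hf := fr_of hd iz (cen_le_cen1 h2 hz.2) e
  obtain ⟨g, hg, k⟩ := (hT.subl_inf (le_cen1.2 h1.2)).syl_subJ hf.pGrp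
    (le_inf ((hf.V_le h2 hz.1).trans hR.le) hf.V_le_cen)
  have k1 := hT.cj_mem hg.1
  refine cen_anti (h.le k1 k hf.not_cyc hR.pi hR.le (hf.V_le h2 hz.1)) ?_
  rw [← cj_cen, mem_cj, mul_assoc, ← mem_cen1.1 hg.2, inv_mul_cancel_left]
  exact h1.2

theorem CI.tyG [IsSimpleGroup G] (h : CI (⊤ : Subgroup G)) (nab : ¬ IsMulCommutative G) : TyG G := by
  obtain ⟨T, hT⟩ := exists_syl 2 (⊤ : Subgroup G)
  obtain ⟨z, hz, iz⟩ := exists_invo ((hT.pi.inf_left _).dvd (hT.pi.center_ne_bot fun e =>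
    H20.simple_not_solvable nab (sol_top.1 (sol_odd (odd_iff_p'.2 (hT.eq_bot_iff.1 e))))))
  refine H8.tyG_of_sc (fun X _ _ _ => AC.Ap.fs AC.core X) nab (D := {d | Invo d ∧ ∃ T, Syl 2 T ⊤ ∧ d ∈ Z(T)})
    ⟨fun d hd _ => hd.1, fun d ⟨h1, T, h2, h3⟩ _ g _ => ⟨h1.conj g, _, h2.cj_mem (mem_top g),
      cj_center g T ▸ conj_mem_cj.2 h3⟩, fun P _ hP d ⟨h1, T, h2, h3⟩ h4 e _ h5 => ?_,
      fun d ⟨h1, T, h2, h3⟩ _ e ⟨h4, T', h5, h6⟩ _ c ne => ?_⟩ ⟨iz, T, hT, hz⟩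
  · obtain ⟨R, hR, k⟩ := hP.exists_syl le_top
    exact (FT.mem_cen.1 (h.mem_cen h2 hR h1 h3 (k h4)) e (k h5)).symm
  · have hf : Fr d e := ⟨h1, h4, c, ne.symm⟩
    obtain ⟨R, hR, k⟩ := hf.pGrp.exists_syl le_top
    exact ⟨hf.mul, R, hR, k hf.m_mem, mul_mem (h.mem_cen h2 hR h1 h3 (k hf.l_mem))
      (h.mem_cen h5 hR h4 h6 (k hf.r_mem))⟩

theorem exists_bi' (h : TB E) (hT : Syl 2 T E) : ∃ Z K t, KB.BI E T Z K t ∧
    (#T ≠ #Z ^ 3 ∨ ∃ w ∈ E ⊓ C(Z), w ≠ 1 ∧ Odd (orderOf w)) := by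
  haveI := h.simple
  have hi := E.subtype_injective
  obtain ⟨H, hH⟩ := h.se
  obtain ⟨S, -⟩ := BS.bender_simple h.nab hH
  obtain ⟨g, -, e⟩ := (KB.syl_Q S).syl_trans ((hall_so_top hT.le).2 hT)
  let S' : BS.R3 E (E ⧸ H) := ⟨S.toR1.conj g, S.faith, S.r2⟩
  have e1 : S'.Q = T.subgroupOf E := by
    ext x; rw [e, mem_cj]; exact S.mem_conj_Q
  have b := KB.bi_of S'
  have e2 := card_map_inj hi S'.Q
  rw [e1, map_so hT.le] at b e2
  refine ⟨_, _, _, b, ?_⟩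
  have h4 := S'.four_le_q
  rw [card_map_inj hi, e2, ← e1]
  change _ ≠ S'.q ^ 3 ∨ _
  rcases S'.known.2 with k | k | k
  · exact .inl (by rw [k.Q_eq]; exact (Nat.pow_lt_pow_right (a := S'.q) (by omega) (by norm_num : 1 < 3)).ne ∘ (pow_one _).trans)
  · exact .inl (k.card ▸ (Nat.pow_lt_pow_right (by omega) (by norm_num)).ne)
  · obtain ⟨w, hw, h1⟩ := exists_ne_one k.W_ne
    exact .inr ⟨w, ⟨w.2, map_cents _ S'.W_le_cent ⟨w, hw, rfl⟩⟩, fun e => h1 (Subtype.ext e),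
      orderOf_coe w ▸ S'.odd_of_mem_D hw.1.1⟩

theorem fr_cen (hF : Fr0 E T Z R) (hS : PGrp 2 S) (h1 : S ≤ N(Z)) (h2 : R ≤ N(S)) : S ≤ C(Z) := by
  obtain ⟨z, hz, z1⟩ := exists_ne_one (hS.meet_cen (hF.syl.pi.mono hF.ZT) h1 fun e => by
    have := hF.four; rw [e, card_bot'] at this; omega)
  refine centsC fun w hw => ?_
  by_cases w1 : w = 1
  · exact w1 ▸ one_mem _
  obtain ⟨r, hr, rfl⟩ := hF.trans z hz.1 z1 w hw w1
  exact conj_mem (norms_cent h2 hr) hz.2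

theorem le_of_tyG (hX : AS X E) (h : TyG E) (hS : Syl 2 S X) (hn : X ⊓ N(S ⊓ E) ≤ N(S)) : S ≤ E := by
  have hT := hS.inf_nml hX.nml
  have h0 : S ≤ N(S ⊓ E) := normsI (le_nrm S) (hS.le.trans hX.nml.2)
  have h1 : E ⊓ N(S ⊓ E) ≤ N(S) := (inf_le_inf_right _ hX.nml.1).trans hn
  have ab : ∀ R, Fr0 E (S ⊓ E) (S ⊓ E) R → IsSimpleGroup E → ¬ IsMulCommutative E → S ≤ E :=
    fun R hF s n x hx => (hX.aut_ab s n hT hF.el.ab (hS.le hx) (hS.pi.piElt hx)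
      (fr_cen hF hS.pi h0 ((le_inf hF.RE hF.RT).trans h1) hx)).2
  rcases h with h | h | h
  swap
  · obtain ⟨-, R, hF⟩ := h.frame hT
    exact ab R hF h.simple h.nab
  swap
  · obtain ⟨-, R, hF⟩ := h.frame hT
    exact ab R hF h.simple h.nab
  obtain ⟨Z, K, t, b, hc⟩ := exists_bi' h hT
  generalize hTd : S ⊓ E = T at *
  have a0 := h0.trans b.nrm
  have a1 := fr_cen b.frame hS.pi a0 ((le_inf b.KE b.KT).trans h1)
  have a2 : T ≤ N(Z) := (le_nrm T).trans b.nrm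
  have a3 : E ⊓ N(T) ≤ N(T ⊓ qpre(Z, C(S /ₛ Z))) := normsI inf_le_right
    (norms_qpre (inf_le_right.trans b.nrm) (norms_cent (quo_norms Z h1)))
  have a4 : Z ≤ T ⊓ qpre(Z, C(S /ₛ Z)) := le_inf b.ZT (le_qpre _)
  rcases (inf_le_left : T ⊓ qpre(Z, C(S /ₛ Z)) ≤ T).eq_or_lt with e | e
  · exact fun x hx => hT.le (b.mem_T' hX (hS.le hx) (h0 hx) (a1 hx) ((commSS le_rfl (zpowers_le.2 hx)).trans
      ((le_qpre_cen a0).1 (e.ge.trans inf_le_right)).2))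
  exfalso
  have a5 : ¬ T ⊓ qpre(Z, C(S /ₛ Z)) ≤ Z := fun k => (hS.pi.quo Z).meet_cen (hT.pi.quo Z) (quo_norms Z h0)
    (quo_ne_bot a2 fun c => e.not_ge (c.trans a4)) (by rw [← quo_inf_qpre]; exact quo_eq_bot_of_le k)
  rcases b.cases with k | ⟨k, -⟩
  · exact a5 (inf_le_left.trans k.le)
  obtain ⟨k1, k2⟩ := b.suz k
  have a6 := k1.inv_sub (k2.symm ▸ lt_of_le_not_ge a4 a5) e ((le_inf b.KE b.KT).trans a3)
  rw [k2] at a6
  rcases hc with c | ⟨w, hw, w1, wo⟩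
  · exact c a6.2.1
  have a7 := b.nrmZ (le_nrm E hw.1) (cen_le_nrm _ hw.2)
  have a8 := zpowers_le.2 (b.nrm a7)
  have a9 := ((b.odd hX (hX.nml.1 hw.1) wo hw.2).resolve_left w1).1
  refine a5 ((quo_eq_bot (inf_le_left.trans a2)).1 (eq_bot_of_le (le_inf ?_ ?_) (coprime_abel_cent_TI
    (quo_norms Z (zpowers_le.2 a7)) ((cop_of_odd hT.pi (odd_zp wo)).quo Z) (ab_quo_of_der_le b.der))))
  · rw [← quo_comm a2 a8]
    exact (quo_mono Z (inf_le_left.trans a9)).trans (quo_sup_right ((comm_le_left (zpowers_le.2 a7)).trans a2)).le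
  · exact quo_cents_of_comm_le (commutator_le.2 fun v hv y hy => b.cenq inf_le_left a6.2.2
      (zpowers_le.2 (a3 ⟨hw.1, a7⟩) hy) (zpowers_le.2 hw.2 hy) hv)

theorem CI.core (h : CI (⊤ : Subgroup G)) (hR : ∀ N : Subgroup G, N ⊴ ⊤ → Sol N → N = ⊥) (h1 : (⊤ : Subgroup G) ≠ ⊥) :
    ∃ E : Subgroup G, E ⊴ ⊤ ∧ IsSimpleGroup E ∧ ¬ IsMulCommutative E ∧ TyG E ∧ Odd E.index := by
  obtain ⟨K, hK⟩ : ∃ K, Comp K (⊤ : Subgroup G) := by_contra fun c => gfit_ne_bot h1 (by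
    rw [gfit_eq, lay_eq_bot_iff.2 (not_exists.1 c), hR _ (fitting_nml _) (fitting_nil _).sol, bot_sup_eq])
  obtain ⟨S, hS⟩ := exists_syl 2 (⊤ : Subgroup G)
  have hT := hS.inf_subn hK.subn
  have a1 : ¬ Cyc (S ⊓ K) := fun c => hK.qs.not_sol (sol_npc (npc_of_cyc hT c))
  have a2 : Sol C(K) := h.sol le_top hT.pi a1 le_top (cents_norm (cen_anti inf_le_right))
  have a3 : K ⊴ ⊤ := le_antisymm hK.le_lay (lay_le_iff.2 fun L hL => (hL.eq_or_cents hK).elim (·.le)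
    fun c => (hL.qs.not_le_sol a2 c).elim) ▸ lay_nml ⊤
  have a4 := hR _ ⟨le_top, norms_cent a3.2⟩ a2
  have := hK.qs.isSimpleGroup (eq_bot_of_le inf_le_right a4)
  have a5 : ¬ IsMulCommutative K := fun c => hK.qs.not_cents (Ab.le_cen c)
  have a6 := (h.mono le_top : CI K).top.tyG a5
  refine ⟨K, a3, this, a5, a6, ?_⟩
  rw [← relIndex_top_right]
  exact Nat.odd_iff.2 (Nat.two_dvd_ne_zero.1 ((hS.relIndex_of_le (le_of_tyG ⟨a3, by rw [a4, inf_bot_eq]⟩ a6 hS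
    (h.nrm hS inf_le_left a1))).not_dvd Nat.prime_two rfl))

theorem CI.j1 (h : CI (⊤ : Subgroup G)) (hJ : TJ G) : Nat.card G = 175560 := by
  have := hJ.simple
  obtain ⟨T, hT, el, c8⟩ := hJ.syl
  obtain ⟨a, ha, ia⟩ := exists_invo (H := T) (c8 ▸ by norm_num)
  obtain ⟨L, j⟩ := (hJ.of_equiv topEquiv.symm : TJ (⊤ : Subgroup G)).jl hT ha ia.ne
  have b0 := j.nml
  have b1 := j.cen
  rw [top_inf_eq] at b0 b1
  have s := j.s4
  obtain ⟨R, hF⟩ := s.frame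
  obtain ⟨w, hw, iw⟩ := exists_invo (H := T ⊓ L) (s.card ▸ by norm_num)
  have hd := dh_of_four s.card (fun x hx => sq x ▸ hF.el.pow hx) hw iw.ne
  have hf : Fr a w := fr_of ia iw (b0.1 hw.2) fun e => j.inf (e ▸ hw.2)
  have c1 : L ⊓ C[w] ≤ N(T ⊓ L) := normsI (((inf_le_inf_right _ b0.1).trans
    (le_inf le_top (cents_norm hf.cen_V.ge))).trans (h.nrm hT (hf.V_le ha hw.1) hf.not_cyc))
    (inf_le_left.trans (le_nrm L))
  have c2 : C[a] ⊓ N(T ⊓ L) ⊓ C[w] = T := hT.max (piGrp_iff_forall.2 fun x hx => by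
      have k1 := piElt_constt {2}ᶜ x
      have k2 := constt_mem {2}ᶜ hx
      have k3 := odd_zpowers k1
      have k4 := hd.cents k3 (zpowers_le.2 k2.1.2) (.inr (zpowers_le.2 k2.2)) (mem_zpowers _)
      rw [card_zpowers'] at k3
      exact constt_compl_eq_one_iff.1 (k1.eq_one_of_mem' ia.pGrp (b1.le ⟨k2.1.1, s.fix ⟨b0.2 k2.1.1, k4⟩ k3 hw iw.ne
        ((le_inf inf_le_left c1).trans (kj_odd_cen hF.el s.cenV ⟨b0.2 k2.1.1, k4⟩ k3))⟩)))
    (le_inf (le_inf (el.ab.le_cen1 ha) (el.ab.norms inf_le_left)) (el.ab.le_cen1 hw.1)) le_top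
  have c3 : T ≤ ⟪a⟫ ⊔ L := j.sup.ge.trans (sup_le_sup_left inf_le_right _)
  have dp : DP ⟪a⟫ L C[a] := ⟨cen_zpowers a ▸ b0.1, le_antisymm (sup_le (zpowers_le_cen1 a) b0.1)
    ((s.syl.frattini b0).sup.ge.trans (sup_le le_sup_right fun n hn => by
      obtain ⟨r, hr, e⟩ := hF.trans _ (conj_mem hn.2 hw) (iw.conj n).ne w hw iw.ne
      exact (mul_mem_cancel_left (mem_sup_right (hF.RE hr))).1 (c3 (c2.le ⟨mul_mem ⟨b0.1 (hF.RE hr), hF.RT hr⟩ hn,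
        mem_cen1.2 (mul_inv_eq_iff_eq_mul.1 (by simpa only [mul_inv_rev, mul_assoc] using e))⟩)))),
    eq_bot_iff.2 fun x hx => (ia.mem_zpowers.1 hx.1).resolve_right fun c => j.inf (c ▸ hx.2)⟩
  have c4 : C[(⟨w, hw.2⟩ : L)].map L.subtype = T ⊓ L := by
    rw [map_cen1]
    exact le_antisymm (le_inf ((le_inf (le_inf (inf_le_left.trans b0.1) c1) inf_le_right).trans c2.le) inf_le_left)
      (le_inf inf_le_right ((el.ab.le_cen1 hw.1).trans' inf_le_left))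
  have iw' : Invo (⟨w, hw.2⟩ : L) := invo_coe.2 iw
  rcases (dh_of_four (by rw [← card_map_inj L.subtype_injective, c4, s.card]) (fun x hx => Subtype.ext
    (hd.sq_of_card iw.card (c4.le ⟨x, hx, rfl⟩))) (self_mem_cen1 _) iw'.ne).four iw'.card hF.cl.so with ⟨⟨e⟩⟩ | ⟨⟨e⟩⟩
  · have := H10.isSolvable_A4
    exact (kl_not_sol s.simple (s.ty.elim TB.nab TL.nab) (Group.isSolvable_of_isSolvable_injective (f := e.toMonoidHom)
      e.injective)).elim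
  · exact JR.Hy.five ⟨ia, JR.a5_l2.of_equiv (e.trans topEquiv.symm), dp, hJ.cl⟩

/-- Herzog's list -/
def Hz (Y : Type*) [Group Y] : Prop :=
  (∃ (n : ℕ) (F : Type) (_ : Field F) (_ : Fintype F), 2 ≤ n ∧ Fintype.card F = 2 ^ n ∧
      Nonempty (Y ≃* Matrix.ProjectiveSpecialLinearGroup (Fin 2) F)) ∨
  (∃ (m : ℕ) (F : Type) (_ : Field F) (_ : Fintype F), 1 ≤ m ∧ Fintype.card F = 2 ^ (2 * m + 1) ∧
      Nonempty (Y ≃* ↥(Cfsg.Lie.Sz F (2 ^ (m + 1))))) ∨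
  (∃ (n : ℕ) (F : Type) (_ : Field F) (_ : Fintype F), 2 ≤ n ∧ Fintype.card F = 4 ^ n ∧
      Nonempty (Y ≃* Cfsg.PSU 3 F (2 ^ n))) ∨
  (∃ (F : Type) (_ : Field F) (_ : Fintype F), (Fintype.card F % 8 = 3 ∨ Fintype.card F % 8 = 5) ∧
      5 < Fintype.card F ∧ Nonempty (Y ≃* Matrix.ProjectiveSpecialLinearGroup (Fin 2) F)) ∨
  Cfsg.IsJ1 Y

theorem CI.hz (h : CI (⊤ : Subgroup G)) (ht : TyG G) : Hz G := by
  rcases ht with k | k | k
  · have := k.simple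
    obtain ⟨H, hH⟩ := k.se
    obtain ⟨S, -⟩ := BS.bender_simple k.nab hH
    rcases S.isBender with ⟨F, _, _, ⟨n, h1, h2⟩, h3⟩ | ⟨F, _, _, m, h1⟩ | ⟨F, _, _, n, h1, h2, h3⟩
    · exact .inl ⟨n, F, _, _, h1, h2, h3⟩
    · exact .inr (.inl ⟨m, F, _, _, h1⟩)
    · exact .inr (.inr (.inl ⟨n, F, _, _, h1, by rw [h2, ← pow_mul, mul_comm, pow_mul]; rfl, h3⟩))
  · have := k.simple
    obtain ⟨T, hT, h4⟩ := k.syl
    have k' : TL (⊤ : Subgroup G) := k.of_equiv topEquiv.symm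
    obtain ⟨w, hw, iw⟩ := exists_invo (H := T) (h4 ▸ by norm_num)
    obtain ⟨F, _, _, ⟨h1, h2⟩, ⟨e⟩⟩ := psl_of_four k'.not_sol hT
      (dh_of_four h4 (fun x hx => sq x ▸ (k'.el hT).pow hx) hw iw.ne) h4
    rcases h2.eq_or_lt with h2 | h2
    · have := Fintype.ofFinite (GaloisField 2 2)
      have h3 := GaloisField.card 2 2 two_ne_zero
      obtain ⟨e1⟩ := H10.PSL2_five_equiv (F := F) (by rw [Nat.card_eq_fintype_card, h2])
      obtain ⟨e2⟩ := H10.PSL2_four_equiv h3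
      exact .inl ⟨2, GaloisField 2 2, _, _, le_rfl, Nat.card_eq_fintype_card.symm.trans h3,
        ⟨e.trans (e1.trans e2.symm)⟩⟩
    · exact .inr (.inr (.inr (.inl ⟨F, _, _, h1, h2, ⟨e⟩⟩)))
  · exact .inr (.inr (.inr (.inr ⟨k.simple, h.j1 k⟩)))

theorem rad_quo (hs : Sol R) [R.Normal] (hR : ∀ N : Subgroup G, N ⊴ ⊤ → Sol N → N ≤ R)
    (N : Subgroup (G ⧸ R)) (hN : N ⊴ ⊤) (h : Sol N) : N = ⊥ := by
  have := nml_top_iff.1 hN
  have s1 := QuotientGroup.mk'_surjective R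
  have : Sol (N.comap (QuotientGroup.mk' R)) := by
    have : Sol ((QuotientGroup.mk' R).subgroupComap N).ker := (hs.mono (B := Subgroup.map (Subgroup.subtype _) _) (by
      rintro _ ⟨x, hx, rfl⟩
      exact (QuotientGroup.eq_one_iff _).1 (congrArg Subtype.val hx))).of_equiv (subtypeEquiv _).symm
    exact Group.isSolvable_of_ker_le_range _ ((QuotientGroup.mk' R).subgroupComap N) (range_subtype _).ge
  rw [← map_comap_eq_self_of_surjective s1 N, Subgroup.map_eq_bot_iff, QuotientGroup.ker_mk']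
  exact hR _ (nml_top_iff.2 inferInstance) this

theorem top_ne (hs : Sol R) [R.Normal] (hn : ¬ Sol (⊤ : Subgroup G)) : (⊤ : Subgroup (G ⧸ R)) ≠ ⊥ := fun e => by
  rw [← map_top_of_surjective _ (QuotientGroup.mk'_surjective R), Subgroup.map_eq_bot_iff, QuotientGroup.ker_mk'] at e
  exact hn (hs.mono e)

theorem CI.central (h : CI (⊤ : Subgroup G)) (hn : ¬ Sol (⊤ : Subgroup G)) (hO : Od((⊤ : Subgroup G)) = ⊥) :
    ⊤ ≤ C(O[{2}]((⊤ : Subgroup G))) := by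
  have a1 := h.cyc hn
  have a2 := pcore_pi {2} (⊤ : Subgroup G)
  have a3 := pcore_nml {2} (⊤ : Subgroup G)
  have a4 := fun N => h.le_pcore (N := N) hn hO
  generalize O[{2}]((⊤ : Subgroup G)) = V at *
  have := nml_top_iff.1 a3
  have s1 := QuotientGroup.mk'_surjective V
  obtain ⟨E, hE, hs, na, -, ho⟩ := (h.surj _ s1).core (rad_quo a2.sol a4) (top_ne a2.sol hn)
  have a5 : C(V) ⊴ ⊤ := ⟨le_top, norms_cent a3.2⟩
  have a6 : PiNat {2} (C(V).relIndex ⊤) := (piGrp_quo_iff a5.2).1 (piGrp_iff_forall.2 fun u hu => by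
    obtain ⟨x, -, hx, rfl⟩ := mem_quo.1 hu
    rw [← constt_compl_eq_one_iff, ← pfun_constt _ _ hx, coset_eq_one_iff (a5.2 trivial)]
    exact cents_of_cyc_two a1 a2 (odd_zpowers (piElt_constt _ x)) (le_top.trans a3.2) (mem_zpowers _))
  have a7 : C(V).map (QuotientGroup.mk' V) ⊴ ⊤ := map_top_of_surjective _ s1 ▸ a5.map _
  have a8 : PiNat {2} ((C(V).map (QuotientGroup.mk' V)).relIndex ⊤) := by
    rw [relIndex_top_right] at a6 ⊢
    exact a6.of_dvd (index_map_dvd _ s1)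
  have a9 : E ≤ C(V).map (QuotientGroup.mk' V) := by
    rcases kj_nml hs (nml_inf_of_norms (le_top.trans a7.2)) with e | e
    · refine (kl_not_sol hs na (PiGrp.sol (p := 2) (piGrp_of_relIndex (K := C(V).map (QuotientGroup.mk' V))
        (by rw [inf_comm, e]; exact piGrp_bot _) (a8.of_dvd (relIndex_dvd_of_norm le_top a7.2))))).elim
    · exact e.ge.trans inf_le_right
  have a10 := a8.eq_one ((p'nat_of_not_dvd ho.not_two_dvd_nat).of_dvd (by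
    rw [relIndex_top_right]; exact index_dvd_of_le a9))
  rw [relIndex_top_right, index_eq_one] at a10
  rw [← comap_map_eq_self (f := QuotientGroup.mk' V) (H := C(V)) (by
    rw [QuotientGroup.ker_mk']; exact a1.ab.le_cen), a10, comap_top]

end Cfsg.Agent.H23
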