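import Cfsg.Agent.GO.Fg1

/-! The two tables of type `M₁₂` give isomorphic groups. -/

set_option autoImplicit false

namespace Cfsg.Agent.GO.Fg

def rI_s (c : ℕ) : ℕ := mu 10 (c % 16) (mu 10 (if c / 16 % 2 = 1 then mu 10 16 2 else 0) (32 * (c / 32)))

theorem rI_f1 : ∀ a < 64, ∀ b < 64, rI_s (mu 0 a b) = mu 10 (rI_s a) (rI_s b) := by decide +kernel

theorem rI_f2 : ∀ a < 64, ∀ b < 64, rI_s a = rI_s b → a = b := by decide +kernel

theorem rI_f3 : ∀ b < 64, ∃ a < 64, rI_s a = b := by decide +kernel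

theorem rI_f0 : rI_s 0 = 0 := by decide +kernel

theorem rI_10 {G : Type*} [Group G] {P : Subgroup G} {v : ℕ → G} (h : Rp 10 P v) :
    Rp 0 P (fun c => v (rI_s c)) where
  one := by rw [rI_f0, h.one]
  mul a ha b hb := by rw [rI_f1 a ha b hb]; exact h.mul _ (mu_lt ..) _ (mu_lt ..)
  inj a ha b hb e := rI_f2 a ha b hb (h.inj _ (mu_lt ..) _ (mu_lt ..) e)
  mem g := by
    rw [h.mem]
    constructor
    · rintro ⟨b, hb, rfl⟩
      obtain ⟨a, ha, rfl⟩ := rI_f3 b hb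
      exact ⟨a, ha, rfl⟩
    · rintro ⟨a, -, rfl⟩
      exact ⟨_, mu_lt .., rfl⟩

theorem rI_same {G G' : Type*} [Group G] [Group G'] {P : Subgroup G} {H : Subgroup G'} {v : ℕ → G}
    {w : ℕ → G'} {n : ℕ} (h : Rp n P v) (h' : Rp n H w) : Nonempty (P ≃* H) := by
  choose c hc hv using fun p : P => (h.mem p).1 p.2
  let φ : P →* H := MonoidHom.mk' (fun p => ⟨w (c p), (h'.mem _).2 ⟨_, hc p, rfl⟩⟩) fun p q => Subtype.ext (by
    have e : c (p * q) = mu n (c p) (c q) := h.inj _ (hc _) _ (mu_lt ..) (by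
      rw [hv, h.mul _ (hc p) _ (hc q), hv, hv]; rfl)
    show w (c (p * q)) = w (c p) * w (c q)
    rw [e, h'.mul _ (hc p) _ (hc q)])
  refine ⟨MulEquiv.ofBijective φ ⟨fun p q e => Subtype.ext ?_, fun ⟨g, hg⟩ => ?_⟩⟩
  · rw [← hv p, ← hv q, h'.inj _ (hc p) _ (hc q) (congrArg Subtype.val e)]
  · obtain ⟨a, ha, rfl⟩ := (h'.mem g).1 hg
    refine ⟨⟨v a, (h.mem _).2 ⟨a, ha, rfl⟩⟩, Subtype.ext ?_⟩
    show w (c _) = w a
    rw [h.inj _ (hc _) a ha (hv _)]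

theorem rI {G G' : Type*} [Group G] [Group G'] {P : Subgroup G} {H : Subgroup G'} {v : ℕ → G} {w : ℕ → G'}
    {n : ℕ} (hn : n = 0 ∨ n = 10) (h : Rp n P v) (h' : Rp 0 H w) : Nonempty (P ≃* H) := by
  rcases hn with rfl | rfl
  · exact rI_same h h'
  · exact rI_same (rI_10 h) h'

end Cfsg.Agent.GO.Fg
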