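import Mathlib
import Cfsg.Agent.GO.Cm
import Cfsg.Agent.H22.Hol
import Cfsg.Agent.H3.Two
import Cfsg.Agent.H28.Util2
import Cfsg.Agent.H6.Frobenius
import Cfsg.Agent.H20.MinS
import Cfsg.Agent.S3815

/-! A finite group in which every two elements generate a solvable subgroup is solvable. -/

set_option autoImplicit false
set_option linter.unusedSectionVars false

namespace Cfsg.Agent.H23.Fl

open Cfsg Subgroup Cfsg.Agent.FT
open scoped commutatorElement Pointwise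

universe u

variable {G : Type u} [Group G] [Finite G] {p : ℕ} {A B E H K K' L M P S W X Y : Subgroup G} {a e g k n : G}

theorem zj_sol (hp : p.Prime) (h5 : 5 ≤ p) (hs : Sol M) (hP : Syl p P M) :
    MulEq O[{p}ᶜ](M) (M ⊓ N(Z(H5b.Jn p P))) M := by
  have := Fact.mk hp
  obtain ⟨T, rfl⟩ := hP.exists_sylow hp
  have := (H5b.ZJn_factorization (by omega) (Or.inr rfl) ((isPConstrained_iff hp).2 (hs.play_eq_bot p))
    ((H5b.qf_of_pSolvable (by omega) (H1.isPSolvable_of_isSolvable hp hs) (by omega)).quotient _).stab T).2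
  have e := congrArg (Subgroup.map M.subtype) this
  rw [Subgroup.map_sup, ← pcore_compl_singleton hp, map_subtype_top, map_subtype_nrm,
    map_subcent_inj M.subtype_injective, H5b.map_Jn M.subtype_injective] at e
  exact mulEq_of_sup (inf_le_left.trans (pcore_nrm _ _)) e

theorem zj_le (p : ℕ) (S : Subgroup G) : Z(H5b.Jn p S) ≤ S := inf_le_left.trans (H5b.Jn_le _ _)

theorem zj_ne (hS : PGrp p S) (h : S ≠ ⊥) : Z(H5b.Jn p S) ≠ ⊥ :=
  have := Fact.mk (hS.prime h)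
  H5b.ZJn_ne_bot hS.isPGroup h (Or.inr rfl)

theorem zj_nrm (h : X ≤ N(S)) : X ≤ N(Z(H5b.Jn p S)) := norms_center (P22.norms_Jn h)

/-- a minimal counterexample -/
structure Mc (G : Type u) [Group G] : Prop where
  simple : ∀ H : Subgroup G, H.Normal → H = ⊥ ∨ H = ⊤
  two : ∀ a b : G, Sol (⟪a⟫ ⊔ ⟪b⟫)
  sol : ∀ H : Subgroup G, H ≠ ⊤ → Sol H
  ns : ¬ Sol (⊤ : Subgroup G)

namespace Mc

theorem nrm_ne (h : Mc G) (h1 : X ≠ ⊥) (hs : Sol X) : N(X) ≠ ⊤ := fun e =>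
  h.ns ((h.simple X (normalizer_eq_top_iff.1 e)).resolve_left h1 ▸ hs)

theorem solN (h : Mc G) (h1 : X ≠ ⊥) (hs : Sol X) : Sol N(X) := h.sol _ (h.nrm_ne h1 hs)

theorem core (h : Mc G) (ha : PiElt {p} a) (h1 : a ≠ 1) : O[{p}ᶜ](C(⟪a⟫)) = ⊥ := by
  have hp := ha.zpowers.prime (zpowers_ne_bot' h1)
  have := Fact.mk hp
  refine eq_bot_iff.2 fun z hz => ?_
  have pz := (pcore_pi _ _).piElt hz
  have : z ∈ O[{p}ᶜ]((⊤ : Subgroup G)) := by
    rw [pcore_top, piCore_compl_singleton hp]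
    refine S3815.result z ((p'elt_iff_coprime hp).1 pz) fun x hx => (p'elt_iff_coprime hp).1 ?_
    have s := h.two (a * z) x
    rw [zpowers_mul_of_coprime (mem_cen.1 (pcore_le _ _ hz) a (mem_zpowers a)) (ha.coprime pz)] at s
    have m : z ∈ ⟪a⟫ ⊔ ⟪z⟫ ⊔ ⟪x⟫ := mem_sup_left (mem_sup_right (mem_zpowers z))
    have := p'core_cent_pgroup ha.zpowers (le_sup_left.trans le_sup_left) s
      (pcore_inf_le _ inf_le_right ⟨hz, m, pcore_le _ _ hz⟩)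
    exact ((pcore_pi _ _).sup ((p'elt_iff_coprime hp).2 hx).zpowers (le_sup_right.trans (pcore_nrm _ _))).piElt
      (mul_mem_sup this (mem_zpowers x))
  rcases h.simple _ (nml_top_iff.1 (pcore_nml {p}ᶜ ⊤)) with e | e
  · exact e ▸ this
  · exact absurd (ha.eq_one_of_mem (pcore_pi _ ⊤) (e.ge (mem_top a))) h1

theorem coreN (h : Mc G) (hX : PGrp p X) (h1 : X ≠ ⊥) : O[{p}ᶜ](N(X)) = ⊥ := by
  obtain ⟨a, ha, a1⟩ := exists_ne_one (hX.center_ne_bot h1)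
  have l : ⟪a⟫ ≤ X := zpowers_le.2 ha.1
  have := p'core_cent_pgroup hX (centsC (zpowers_le.2 ha.2))
    ((h.solN (zpowers_ne_bot' a1) (sol_zpowers a)).mono (cen_le_nrm _))
  rw [h.core (hX.piElt ha.1) a1, inf_eq_right.2 (cen_anti l)] at this
  rw [core_nrm hX, le_bot_iff.1 this]

/-- the normaliser of `Z(J(P))` is strongly `p`-embedded -/
theorem emb (h : Mc G) (h5 : 5 ≤ p) (hP : Syl p P ⊤) (S : Subgroup G) : PGrp p S → S ≠ ⊥ →
    S ≤ N(Z(H5b.Jn p P)) → ∀ H, Sol H → O[{p}ᶜ](H) = ⊥ → S ≤ H → H ≤ N(Z(H5b.Jn p P)) := by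
  induction S using WellFoundedGT.induction with | ind S ih => ?_
  intro hS h1 hM H hs hO hH
  have hp := hS.prime h1
  have loc : ∀ T X, S < T → PGrp p T → T ≤ N(Z(H5b.Jn p P)) → PGrp p X → X ≠ ⊥ → T ≤ N(X) →
      N(X) ≤ N(Z(H5b.Jn p P)) := fun T X lt pT hT pX x1 hn =>
    ih T lt pT lt.ne_bot hT _ (h.solN x1 pX.sol) (h.coreN pX x1) hn
  obtain ⟨g, hg, hT⟩ := (hP.subl (zj_nrm (le_nrm P)) le_top).syl_subJ hS hM
  have hT' := cj_le_of_mem hg (zj_nrm (p := p) (le_nrm P))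
  obtain ⟨U, hU, hSU⟩ := hS.exists_syl hH
  have f := (zj_sol hp h5 hs hU).sup
  rw [hO, bot_sup_eq, inf_eq_left] at f
  rcases hT.eq_or_lt with rfl | lt
  · rw [(hP.cj_mem (mem_top g)).max hU.pi hSU le_top, ← P22.cj_Jn, ← cj_center, cj_of_mem_nrm hg] at f
    exact f
  have lt := (hP.pi.cj g).lt_subnorm lt
  have pT := (hP.pi.cj g).inf_left N(S)
  rcases hSU.eq_or_lt with rfl | lt'
  · exact f.trans (loc _ _ lt pT (inf_le_left.trans hT') (hS.mono (zj_le p S)) (zj_ne hS h1) (zj_nrm inf_le_right))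
  have lt' := hU.pi.lt_subnorm lt'
  exact ih _ lt' (hU.pi.inf_left _) lt'.ne_bot (inf_le_right.trans (loc _ _ lt pT (inf_le_left.trans hT') hS h1
    inf_le_right)) H hs hO (inf_le_left.trans hU.le)

theorem cyc (h : Mc G) (h5 : 5 ≤ p) (hP : Syl p P ⊤) : Cyc P := by_contra fun hc => by
  have P1 : P ≠ ⊥ := fun e => hc (e ▸ cyc_bot)
  have hp := hP.pi.prime P1
  have pZ := hP.pi.mono (zj_le p P)
  have sM := h.solN (zj_ne hP.pi P1) pZ.sol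
  have oM := h.coreN pZ (zj_ne hP.pi P1)
  have tM := h.nrm_ne (zj_ne hP.pi P1) pZ.sol
  have emb := h.emb h5 hP
  have PM : P ≤ _ := zj_nrm (p := p) (le_nrm P)
  generalize N(Z(H5b.Jn p P)) = M at sM oM tM emb PM
  have loc : ∀ X, PGrp p X → X ≠ ⊥ → X ≤ M → N(X) ≤ M := fun X pX x1 hX =>
    emb X pX x1 hX _ (h.solN x1 pX.sol) (h.coreN pX x1) (le_nrm X)
  obtain ⟨E, nE, aE, cE⟩ : ∃ E, E ⊴ P ∧ Ab E ∧ ¬ Cyc E := by_contra fun c =>
    (H3.cyc_or_mc hp hP.pi fun A h1 h2 => by_contra fun h3 => c ⟨A, h1, h2, h3⟩).elim hc (by omega)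
  obtain ⟨_, -, ⟨hA, c⟩, mx⟩ := exists_max (fun A => A ≤ E ∧ Cyc A) ⟨bot_le, cyc_bot⟩
  obtain ⟨a, rfl⟩ := cyc_iff.1 c
  obtain ⟨e, he, he'⟩ := SetLike.exists_of_lt (lt_of_le_of_ne hA fun e => cE (e ▸ c))
  have lE : ⟪a⟫ ⊔ ⟪e⟫ ≤ E := sup_le hA (zpowers_le.2 he)
  have nc : ¬ Cyc (⟪a⟫ ⊔ ⟪e⟫) := fun c => he' ((mx _ ⟨lE, c⟩ le_sup_left).le (mem_sup_right (mem_zpowers e)))
  have a1 : ⟪a⟫ ≠ ⊥ := fun c => nc (by rw [c, bot_sup_eq]; exact cyc_zpowers e)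
  have EM := nE.le.trans PM
  have pE := hP.pi.mono nE.le
  have se : ∀ k, cj k ⟪a⟫ ≤ M → k ∈ M := fun k hk => by
    have := emb _ (pE.mono hA) a1 (hA.trans EM) (cj k⁻¹ M) (sM.cj _) (by rw [← cj_pcore, oM, cj_bot]) (cj_le_iff.1 hk)
    refine loc _ (pcore_pi _ M) (sM.pcore_ne_bot (ne_bot_of_le PM P1) oM) (pcore_le _ _) (nrm_le_nrm_pcore _ _ ?_)
    exact (inv_mem_iff).1 (mem_nrm_of_cj_le this)
  obtain ⟨g, hg⟩ : ∃ g, g ∉ M := by_contra fun c => tM (eq_top_iff.2 fun g _ => by_contra fun d => c ⟨g, d⟩)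
  obtain ⟨_, -, ⟨g, hg, rfl⟩, mn⟩ := exists_min (fun L => ∃ g ∉ M, L = ⟪a⟫ ⊔ cj g ⟪a⟫) ⟨g, hg, rfl⟩
  obtain ⟨k, hk, kM⟩ := SetLike.not_le_iff_exists.1 fun c : ⟪a⟫ ⊔ cj g ⟪a⟫ ≤ M => hg (se g (le_sup_right.trans c))
  rw [← mn _ ⟨k, kM, rfl⟩ (sup_le le_sup_left (cj_le_of_mem hk le_sup_left))] at hk
  have s := h.two a (k * e)
  have ke : k * e ∈ ⟪a⟫ ⊔ ⟪k * e⟫ := mem_sup_right (mem_zpowers _)
  have kH : k ∈ ⟪a⟫ ⊔ ⟪k * e⟫ := by
    refine (sup_le le_sup_left ?_ : _ ≤ ⟪a⟫ ⊔ ⟪k * e⟫) hk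
    have := cj_le_of_mem ke le_sup_left
    rwa [← cj_cj, cj_of_mem_nrm (aE.norms hA he)] at this
  have EH : ⟪a⟫ ⊔ ⟪e⟫ ≤ ⟪a⟫ ⊔ ⟪k * e⟫ := sup_le le_sup_left (zpowers_le.2 ((mul_mem_cancel_left kH).1 ke))
  generalize ⟪a⟫ ⊔ ⟪k * e⟫ = H at s kH EH
  obtain ⟨S, hS, ES⟩ := (pE.mono lE).exists_syl EH
  have S1 := ne_bot_of_le (le_sup_left.trans ES) a1
  have SM : S ≤ M := (center_nml S).nrm.trans (loc _ (hS.pi.inf_left _) (hS.pi.center_ne_bot S1)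
    ((center_le_cen (le_sup_left.trans ES)).trans ((cen_le_nrm _).trans (loc _ (pE.mono hA) a1 (hA.trans EM)))))
  refine kM (((zj_sol hp h5 s hS).sup.ge.trans (sup_le ?_ (inf_le_right.trans ?_))) kH)
  · refine coprime_abelian_gen_cent1 (aE.mono lE) nc (EH.trans (pcore_nrm _ _)) ((pcore_pi _ _).cop' (pE.mono lE))
      fun f hf f1 => inf_le_right.trans ((norms_zpowers_of_cen1 le_rfl).trans ?_)
    exact loc _ (pE.piElt (lE hf)).zpowers (zpowers_ne_bot' f1) (zpowers_le.2 (EM (lE hf)))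
  · exact loc _ (hS.pi.mono (zj_le p S)) (zj_ne hS.pi S1) ((zj_le p S).trans SM)

end Mc

/-- a subgroup of order `p ≥ 5` of a minimal counterexample -/
structure Pt (p : ℕ) (A : Subgroup G) : Prop where
  mc : Mc G
  prime : p.Prime
  five : 5 ≤ p
  card : #A = p

/-- a maximal `A`-invariant `p'`-subgroup -/
structure Mx (p : ℕ) (A K : Subgroup G) : Prop where
  pi : PiGrp {p}ᶜ K
  nrm : A ≤ N(K)
  max : ∀ L, PiGrp {p}ᶜ L → A ≤ N(L) → K ≤ L → L = K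

theorem exists_mx (hY : PiGrp {p}ᶜ Y) (hn : A ≤ N(Y)) : ∃ K, Y ≤ K ∧ Mx p A K := by
  obtain ⟨K, h1, h2, h3⟩ := exists_max (fun K => PiGrp {p}ᶜ K ∧ A ≤ N(K)) ⟨hY, hn⟩
  exact ⟨K, h1, h2.1, h2.2, fun L a b => h3 L ⟨a, b⟩⟩

theorem Mx.cj (h : Mx p A K) (g : G) : Mx p (cj g A) (cj g K) :=
  ⟨h.pi.cj g, cj_norms.2 h.nrm, fun L a b c => by
    rw [← h.max (FT.cj g⁻¹ L) (a.cj _) (cj_nrm g⁻¹ L ▸ cj_le_iff.1 b) (cj_le_iff.1 c), cj_cj_inv]⟩

namespace Pt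

theorem pg (h : Pt p A) : PGrp p A := pGrp_of_card_prime h.prime h.card

theorem pr (h : Pt p A) : (#A).Prime := h.card ▸ h.prime

theorem ne (h : Pt p A) : A ≠ ⊥ := ne_bot_of_prime_card h.pr

theorem cj (h : Pt p A) (g : G) : Pt p (cj g A) := ⟨h.mc, h.prime, h.five, (card_cj g A).trans h.card⟩

theorem cyc (h : Pt p A) (hX : PGrp p X) : Cyc X := by
  obtain ⟨P, hP, l⟩ := hX.exists_syl le_top
  exact (h.mc.cyc h.five hP).mono l

theorem le_of (h : Pt p A) (hS : PGrp p S) (hA : A ≤ S) (hX : X ≤ S) (h1 : X ≠ ⊥) : A ≤ X :=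
  (h.cyc hS).prime_le hA h.pr hX (h.card ▸ (hS.mono hX).dvd h1)

theorem cen (h : Pt p A) : PGrp p C(A) := by
  obtain ⟨S, hS, hA⟩ := h.pg.exists_syl (h.cyc h.pg).ab.le_cen
  have c := h.cyc hS.pi
  have : NPC p C(A) := npc_of_syl_inf_der hS ((cyclic_Sylow_tiVsub_der1 hS c).resolve_right fun e => h.ne
    (eq_bot_of_le (le_inf (le_inf hA (hA.trans e)) (le_inf hA (centsC inf_le_left))) (abelian_Sylow_dp hS c.ab).inf))
  have f := (this.sd hS).sup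
  rw [← core_nrm h.pg, h.mc.coreN h.pg h.ne, bot_sup_eq] at f
  exact f ▸ hS.pi

theorem fpf (h : Pt p A) (hK : PiGrp {p}ᶜ K) : K ⊓ C(A) = ⊥ := hK.inf_eq_bot' h.cen

theorem fpn (h : Pt p A) (hK : PiGrp {p}ᶜ K) (hn : A ≤ N(K)) : K ⊓ N(A) = ⊥ :=
  eq_bot_of_le (le_inf inf_le_left (cents_of_norms_of_inf (normsI hn (norms_norm (le_nrm A))) inf_le_right
    ((hK.inf_left _).inf_eq_bot' h.pg))) (h.fpf hK)

theorem fact (h : Pt p A) (hs : Sol H) (hA : A ≤ H) : MulEq O[{p}ᶜ](H) (H ⊓ N(A)) H := by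
  obtain ⟨S, hS, l⟩ := h.pg.exists_syl hA
  have z := zj_ne hS.pi (ne_bot_of_le l h.ne)
  exact (zj_sol h.prime h.five hs hS).mono le_rfl (pcore_le _ _) (inf_le_inf_left _
    (((h.cyc hS.pi).mono (zj_le p S)).norms_sub (h.le_of hS.pi l (zj_le p S) z) le_rfl)) inf_le_left

theorem blk (h : Pt p A) (hK : PiGrp {p}ᶜ K) (hn : A ≤ N(K)) (hY : PiGrp {p}ᶜ Y) (l : Y ≤ K ⊔ A) : Y ≤ K :=
  (Hall.sup_left hK (piGrp_compl_compl.2 h.pg) hn).le_of_nml (nml_sup_left hn).nrm hY l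

theorem le_core (h : Pt p A) (hs : Sol H) (hA : A ≤ H) (hY : PiGrp {p}ᶜ Y) (hn : A ≤ N(Y)) (l : Y ≤ H) :
    Y ≤ O[{p}ᶜ](H) := by
  have n := hA.trans (pcore_nrm {p}ᶜ H)
  refine h.blk (pcore_pi _ _) n hY ?_
  rw [← coprime_comm_eq_of_cent_bot hn (hY.cop' h.pg) (.inr h.pg.sol) (h.fpf hY)]
  refine (commSS le_rfl le_sup_right).trans (comm_le_right (l.trans ((h.fact hs hA).sup.ge.trans (sup_le
    (norms_of_le le_sup_left) (normsY (inf_le_left.trans (pcore_nrm _ _)) inf_le_right)))))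

theorem sol (h : Pt p A) (hK : PiGrp {p}ᶜ K) : Sol K :=
  h.mc.sol K fun e => h.ne (h.pg.eq_bot (hK.mono (e.ge.trans' le_top)))

theorem ti' (h : Pt p A) (D : Subgroup G) : D ≠ ⊥ → ∀ K K', Mx p A K → Mx p A K' → D ≤ K → D ≤ K' → K = K' := by
  induction D using WellFoundedGT.induction with | ind D ih => ?_
  intro h1 K K' hK hK' l l'
  rcases (le_inf l l').eq_or_lt with rfl | lt
  swap
  · exact ih _ lt lt.ne_bot K K' hK hK' inf_le_left inf_le_right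
  have n := normsI hK.nrm hK'.nrm
  have s := h.mc.solN h1 (h.sol (hK.pi.inf_left _))
  obtain ⟨L, hL, mL⟩ := exists_mx (pcore_pi {p}ᶜ _) (n.trans (pcore_nrm _ _))
  have key : ∀ M, Mx p A M → K ⊓ K' < M → M = L := fun M hM lt => by
    have lt := (prime_Frobenius_sol_kernel_nil hM.nrm (h.sol hM.pi) h.pr (h.fpf hM.pi)).lt_subnorm lt
    exact ih _ lt lt.ne_bot M L hM mL inf_le_left
      ((h.le_core s n (hM.pi.inf_left _) (normsI hM.nrm (norms_norm n)) inf_le_right).trans hL)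
  rcases l.eq_or_lt with e | lt
  · exact (hK.max K' hK'.pi hK'.nrm (e.ge.trans l')).symm
  rcases l'.eq_or_lt with e | lt'
  · exact hK'.max K hK.pi hK.nrm (e.ge.trans l)
  exact (key K hK lt).trans (key K' hK' lt').symm

theorem ti (h : Pt p A) (hK : Mx p A K) (hK' : Mx p A K') (h1 : K ⊓ K' ≠ ⊥) : K = K' :=
  h.ti' _ h1 K K' hK hK' inf_le_left inf_le_right

theorem two (h : Pt p A) (g : G) : Sol (A ⊔ ⟪g⟫) := by
  obtain ⟨a, rfl⟩ := cyc_iff.1 (h.cyc h.pg)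
  exact h.mc.two a g

theorem meet (h : Pt p A) (hK : Mx p A K) (hk : k ∈ K) (h1 : k ≠ 1) (hA : A ≤ H) (l : FT.cj k A ≤ H) : K ⊓ H ≠ ⊥ :=
  fun e => h1 (eq_one_of_mem_inf (h.fpf hK.pi) hk (mem_cen.2 fun a ha => by
    have : k * (a * k⁻¹ * a⁻¹) = 1 := eq_one_of_mem_inf e (mul_mem hk (conj_mem (hK.nrm ha) (inv_mem hk)))
      (by simpa only [mul_assoc] using mul_mem (l (conj_mem_cj.2 ha)) (inv_mem (hA ha)))
    calc a * k = k * (a * k⁻¹ * a⁻¹) * (a * k) := by rw [this, one_mul]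
      _ = _ := by group))

theorem nk (h : Pt p A) (hK : Mx p A K) (h1 : K ≠ ⊥) : N(A) ≤ N(K) := fun n hn => by
  obtain ⟨k, hk, k1⟩ := exists_ne_one h1
  have s := h.two (k * n)
  have kn : k * n ∈ A ⊔ ⟪k * n⟫ := mem_sup_right (mem_zpowers _)
  have l : A ≤ A ⊔ ⟪k * n⟫ := le_sup_left
  generalize A ⊔ ⟪k * n⟫ = H at s kn l
  have m := h.meet hK hk k1 l (by simpa only [← cj_cj, cj_of_mem_nrm hn] using cj_le_of_mem kn l)
  have c := h.le_core s l (hK.pi.inf_left H) (normsI hK.nrm (norms_of_le l)) inf_le_right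
  obtain ⟨L, hL, mL⟩ := exists_mx (pcore_pi {p}ᶜ _) (l.trans (pcore_nrm _ _))
  obtain rfl := h.ti hK mL (ne_bot_of_le (le_inf inf_le_left (c.trans hL)) m)
  obtain ⟨o, ho, u, hu, e⟩ := (h.fact s l).mul _ kn
  have := hK.cj u
  rw [cj_of_mem_nrm hu.2] at this
  have := cj_eq_self.1 (h.ti this hK (ne_bot_of_le (le_inf (c.trans ((cj_of_mem_nrm (pcore_nrm _ _ hu.1)).ge.trans
    (cj_mono u hL))) inf_le_left) m))
  exact (mul_mem_cancel_left (le_nrm K hk)).1 (e ▸ mul_mem (le_nrm K (hL ho)) this)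

theorem cover (h : Pt p A) (g : G) : ∃ K, Mx p A K ∧ ∃ k ∈ K, ∃ n ∈ N(A), g = k * n := by
  obtain ⟨o, ho, u, hu, e⟩ := (h.fact (h.two g) le_sup_left).mul g (mem_sup_right (mem_zpowers g))
  obtain ⟨L, hL, mL⟩ := exists_mx (pcore_pi {p}ᶜ _) (le_sup_left.trans (pcore_nrm _ (A ⊔ ⟪g⟫)))
  exact ⟨L, mL, o, hL ho, u, hu.2, e⟩

theorem cents (h : Pt p A) (hB : Pt p B) (hK : Mx p A K) (h1 : K ≠ ⊥) (hg : B = FT.cj g A) (nB : ¬ B ≤ K ⊔ A)
    (eA : e ∈ N(A)) (eB : e ∈ N(B)) : e ∈ C(K) := mem_cen.2 fun k hk => by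
  have eK := h.nk hK h1 eA
  have l : FT.cj k A ≤ K ⊔ A := cj_le_of_mem (mem_sup_left hk) le_sup_right
  obtain ⟨L, hL, y, hy, n, hn, f⟩ := hB.cover (k * g⁻¹)
  have f : FT.cj k A = FT.cj y B := by rw [← cj_of_mem_nrm hn, cj_cj, ← f, hg, cj_cj, inv_mul_cancel_right]
  have m1 := hK.cj k
  have m2 := hL.cj y
  rw [cj_of_mem hk] at m1
  rw [cj_of_mem hy, ← f] at m2
  have ne : K ≠ L := fun c => nB (by
    rw [← cj_le_iff_of_mem (mem_sup_left (c ▸ hy)), ← f]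
    exact l)
  have L1 : L ≠ ⊥ := fun c => nB (by
    rw [c, mem_bot] at hy
    rwa [f, hy, cj_one] at l)
  have pY : PGrp p ((K ⊔ A) ⊓ (L ⊔ B)) := by
    refine piGrp_of_relIndex (K := K) ?_ ((h.pg.relIndex K).of_dvd
      (relIndex_sup_norm hK.nrm ▸ relIndex_dvd_of_norm inf_le_left (nml_sup_left hK.nrm).nrm))
    rw [eq_bot_of_le (le_inf inf_le_left (hB.blk hL.pi hL.nrm (hK.pi.inf_left _) (inf_le_right.trans inf_le_right)))
      (by_contra fun c => ne ((h.cj k).ti m1 m2 c))]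
    exact piGrp_bot _
  have := (h.cyc pY).norms_sub (le_inf l (f ▸ cj_le_of_mem (mem_sup_left hy) le_sup_right))
    (normsI (normsY (zpowers_le.2 eK) (zpowers_le.2 eA)) (normsY (zpowers_le.2 (hB.nk hL L1 eB)) (zpowers_le.2 eB)))
    (mem_zpowers e)
  rw [← cj_nrm, mem_cj] at this
  have : k⁻¹ * (e * k * e⁻¹) = 1 := eq_one_of_mem_inf (h.fpn hK.pi hK.nrm) (mul_mem (inv_mem hk) (conj_mem eK hk))
    (by simpa only [mul_assoc] using mul_mem this (inv_mem eA))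
  calc k * e = k * (k⁻¹ * (e * k * e⁻¹)) * e := by rw [this, mul_one]
    _ = _ := by group

theorem false (h : Pt p A) : False := by
  have t := h.mc.nrm_ne h.ne h.pg.sol
  obtain ⟨K, -, hK, c⟩ := H6.exists_frobeniusKernel N(A) ⟨ne_bot_of_le (le_nrm A) h.ne, t, fun g hg => by
    obtain ⟨K, hK, k, hk, n, hn, rfl⟩ := h.cover g
    have k1 : k ≠ 1 := fun e => hg (by rwa [e, one_mul])
    obtain ⟨L, hL, L1, ne⟩ : ∃ L, Mx p A L ∧ L ≠ ⊥ ∧ K ≠ L := by_contra fun c => by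
      refine h.mc.nrm_ne (ne_bot_of_mem hk k1) (h.sol hK.pi) (eq_top_iff.2 fun g _ => ?_)
      obtain ⟨L, hL, y, hy, m, hm, rfl⟩ := h.cover g
      refine mul_mem ?_ (h.nk hK (ne_bot_of_mem hk k1) hm)
      by_cases e : y = 1
      · exact e ▸ one_mem _
      · exact le_nrm K ((by_contra fun d => c ⟨L, hL, ne_bot_of_mem hy e, d⟩ : K = L) ▸ hy)
    refine eq_bot_iff.2 fun e ⟨eA, eB⟩ => by_contra fun e1 => L1 ?_
    have eB : e ∈ N(FT.cj k A) := by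
      rwa [← cj_of_mem_nrm hn, cj_cj, ← cj_nrm]
    have c := h.cents (h.cj k) hL L1 rfl (fun d => ne (h.ti hK hL (ne_bot_of_le (le_inf inf_le_left
      (h.blk hL.pi hL.nrm (hK.pi.inf_left _) inf_le_right)) (h.meet hK hk k1 le_sup_right d)))) eA eB
    refine eq_bot_of_le (le_inf le_rfl (centsC ?_)) (h.fpf hL.pi)
    by_cases d : e ∈ C(A)
    · exact (h.le_of h.cen (h.cyc h.pg).ab.le_cen (zpowers_le.2 d) (zpowers_ne_bot' e1)).trans (zpowers_le.2 c)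
    · exact prime_le_of_inf_ne h.pr (ne_bot_of_le (le_inf (comm_le_left (zpowers_le.2 eA))
        ((commSS le_rfl (zpowers_le.2 c)).trans (comm_le_right (norms_cent hL.nrm))))
        fun b => d (comm_eq_bot'.1 b (mem_zpowers e)))⟩
  rcases h.mc.simple K hK with rfl | rfl
  · exact t (by simpa using c.sup_eq_top)
  · exact h.ne (eq_bot_of_le (le_nrm A) (by simpa using c.disjoint))

end Pt

theorem Mc.false (h : Mc G) : False := h.ns (H28.sol_of_two_primes Nat.prime_two Nat.prime_three fun p hp hd => by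
  by_contra c
  obtain ⟨A, -, hA⟩ := exists_card_prime_le hp hd
  exact Pt.false ⟨h, hp, hp.five_le_of_ne_two_of_ne_three (fun e => c (by simp [e])) (fun e => c (by simp [e])), hA⟩)

theorem two_map {G' : Type*} [Group G'] (f : G →* G') (a b : G) : (⟪a⟫ ⊔ ⟪b⟫).map f = ⟪f a⟫ ⊔ ⟪f b⟫ := by
  rw [Subgroup.map_sup, MonoidHom.map_zpowers, MonoidHom.map_zpowers]

theorem two_sub (N : Subgroup G) (a b : N) : Sol (⟪a⟫ ⊔ ⟪b⟫) ↔ Sol (⟪(a : G)⟫ ⊔ ⟪(b : G)⟫) :=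
  ⟨fun h => two_map N.subtype a b ▸ h.map _, fun h => (two_map N.subtype a b ▸ h :
    Sol ((⟪a⟫ ⊔ ⟪b⟫).map N.subtype)).of_equiv (subtypeEquiv _).symm⟩

theorem two_eq (a b : G) : closure {a, b} = ⟪a⟫ ⊔ ⟪b⟫ := by
  rw [Set.insert_eq, Subgroup.closure_union, zpowers_eq_closure, zpowers_eq_closure]

theorem sol_of_two (G : Type u) [Group G] [Finite G] (h : ∀ a b : G, Sol (⟪a⟫ ⊔ ⟪b⟫)) : Group.IsSolvable G :=
  H20.sol_of_min (fun G _ => ∀ a b : G, Sol (⟪a⟫ ⊔ ⟪b⟫)) (fun _ _ _ N h a b => (two_sub N a b).2 (h a b))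
    (fun _ _ _ N _ _ _ _ h a b => by
      obtain ⟨a, rfl⟩ := QuotientGroup.mk'_surjective N a
      obtain ⟨b, rfl⟩ := QuotientGroup.mk'_surjective N b
      exact two_map (QuotientGroup.mk' N) a b ▸ (h a b).map _)
    (fun _ _ _ _ h n s => Mc.false ⟨fun H => IsSimpleGroup.eq_bot_or_eq_top_of_normal H, h, s, n⟩) G h

end Cfsg.Agent.H23.Fl
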