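import Cfsg.Agent.H23.Ito1
import Cfsg.Agent.H23.AC2
import Cfsg.Agent.H1.Product
import Cfsg.Agent.H8.ZStar2
import Cfsg.Agent.H20.L2c
import Cfsg.Agent.H20.L2e

/-! Simple groups with three class sizes (Itô). -/

set_option autoImplicit false
set_option linter.unusedSectionVars false
set_option linter.unusedVariables false

namespace Cfsg.Agent.H23.Ito

open Cfsg Cfsg.Agent.FT Subgroup
open scoped MatrixGroups

variable {G : Type*} [Group G] [Finite G] {A B : Subgroup G} {s t u v x y : G} {n p : ℕ} {π : Set ℕ}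

/-- `n` is maximal among the class sizes -/
def Mx (G : Type*) [Group G] (n : ℕ) : Prop := ∀ y : G, y ≠ 1 → n ∣ C[y].index → C[y].index = n

/-- `n` is minimal among the class sizes -/
def Mn (G : Type*) [Group G] (n : ℕ) : Prop := ∀ y : G, y ≠ 1 → C[y].index ∣ n → C[y].index = n

theorem eqi (h : A ≤ B) (e : A.index = B.index) : A = B := by
  have := relIndex_mul_index h
  rw [e] at this
  exact le_antisymm h (relIndex_eq_one.1 (Nat.eq_of_mul_eq_mul_right (Nat.pos_of_ne_zero index_ne_zero_of_finite)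
    (this.trans (one_mul _).symm)))

theorem cen_zp (h : y ∈ ⟪x⟫) : C[x] ≤ C[y] := fun g hg => by
  obtain ⟨k, rfl⟩ := h
  exact mem_cen1.2 (Commute.zpow_right (mem_cen1.1 hg) k)

theorem sym (h : x ∈ C[y]) : y ∈ C[x] := mem_cen1.2 (mem_cen1.1 h).symm

theorem Mx.le (hm : Mx G C[u].index) (hu : PiElt π u) (hv : PiElt πᶜ v) (h1 : u ≠ 1) (hc : v ∈ C[u]) :
    C[u] ≤ C[v] := by
  have c := (mem_cen1.1 hc).symm
  have k1 := cen1_le_cen1_constt π (u * v)
  have k2 := cen1_le_cen1_constt πᶜ (u * v)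
  rw [constt_mul_of_pi hu hv c] at k1
  rw [constt_mul_of_pi' hu hv c] at k2
  exact eqi k1 (hm _ (fun e => h1 (by rw [← constt_mul_of_pi hu hv c, e, constt_one])) (index_dvd_of_le k1)) ▸ k2

theorem Mn.eq (hm : Mn G C[x].index) (h : C[x] ≤ C[y]) (h1 : y ≠ 1) : C[y] = C[x] :=
  (eqi h (hm y h1 (index_dvd_of_le h)).symm).symm

theorem ne_one (hp : p.Prime) (h : orderOf x = p) : x ≠ 1 := fun e => hp.ne_one (by rw [← h, e, orderOf_one])

theorem pElt (hp : p.Prime) (h : orderOf x = p) : PiElt {p} x := (piElt_of_orderOf_prime hp h).2 rfl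

theorem free (hM : Mx G C[y].index) (hm : Mn G C[y].index) (hy : y ≠ 1) :
    (∃ p, p.Prime ∧ PGrp p C[y]) ∨ ∀ h ∈ C[y], h ≠ 1 → C[h] = C[y] := by
  obtain ⟨z, hz, hp⟩ := exists_prime_order_zpowers hy
  have z1 := ne_one hp rfl
  have e0 := hm.eq (cen_zp hz) z1
  rw [← e0] at hM hm ⊢
  refine or_iff_not_imp_left.2 fun e h hh h1 => hm.eq ?_ h1
  obtain ⟨q, hq, hd, hne⟩ : ∃ q, q.Prime ∧ q ∣ #C[z] ∧ q ≠ orderOf z := by
    by_contra! k
    exact e ⟨_, hp, k⟩
  obtain ⟨w, hw, wq⟩ := exists_elt_of_prime_dvd hq hd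
  have e1 := hm.eq (hM.le (pElt hp rfl) ((piElt_of_orderOf_prime hq wq).2 hne) z1 hw) (ne_one hq wq)
  rw [← cen1_constt_inf {orderOf z} h]
  refine le_inf ?_ (hM.le (pElt hp rfl) (piElt_constt _ _) z1 (constt_mem _ hh))
  rw [← e1] at hM hh ⊢
  exact hM.le (pElt hq wq) ((piElt_constt _ _).sub fun r hr e => hne (e.symm.trans hr)) (ne_one hq wq) (constt_mem _ hh)

theorem central (hp : p.Prime) (hd : p ∣ Nat.card G) : ∃ z : G, orderOf z = p ∧ ¬ p ∣ C[z].index := by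
  obtain ⟨S, hS, -⟩ := (piGrp_bot {p}).exists_syl (le_top : (⊥ : Subgroup G) ≤ ⊤)
  obtain ⟨z, hz, h2⟩ := (hS.pi.mono (inf_le_left : Z(S) ≤ S)).exists_elt
    (hS.pi.center_ne_bot (hS.ne_bot rfl ⟨hp, by rwa [card_top]⟩))
  exact ⟨z, h2, (relIndex_top_right C[z] ▸ hS.relIndex_of_le (le_cen1.2 hz.2)).not_dvd hp rfl⟩

theorem ab_of_cc (h : ∀ a ∈ A, a ≠ 1 → C[a] = A) : Ab A := ab_iff_forall.2 fun a ha b hb => by
  by_cases e : b = 1
  · simp [e]
  · exact mem_cen1.1 ((h b hb e).ge ha)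

theorem all_of_cc (ht : orderOf t = 2) (h : ∀ a ∈ C[t], a ≠ 1 → C[a] = C[t]) (hs : orderOf s = 2) : Ab C[s] := by
  have h2 := Nat.prime_two
  obtain ⟨S, hS, tS⟩ := (pElt h2 ht).zpowers.exists_syl le_top
  obtain ⟨U, hU, sU⟩ := (pElt h2 hs).zpowers.exists_syl le_top
  obtain ⟨z, hz, z2⟩ := (hS.pi.mono (inf_le_left : Z(S) ≤ S)).exists_elt
    (hS.pi.center_ne_bot fun e => ne_one h2 ht (e.le (tS (mem_zpowers t))))
  have k := le_cen1.2 hz.2
  rw [h z (sym (k (tS (mem_zpowers t)))) (ne_one h2 z2)] at k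
  obtain ⟨g, -, rfl⟩ := hS.syl_trans hU
  obtain ⟨r, hr, rfl⟩ := mem_cj'.1 (sU (mem_zpowers s))
  rw [← cj_cen1, h r (k hr) (ne_one h2 ((orderOf_conj g r).symm.trans hs))]
  exact (ab_of_cc h).cj g

theorem anti (h : ∀ x y : G, x ≠ 1 → y ≠ 1 → C[x].index ∣ C[y].index → C[y].index = C[x].index)
    (hs : orderOf s = 2) : Ab C[s] := by_contra fun hn => by
  have h2 := Nat.prime_two
  have hm : ∀ x : G, x ≠ 1 → Mn G C[x].index := fun x hx y hy e => (h y x hy hx e).symm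
  have k : ∀ t : G, orderOf t = 2 → PGrp 2 C[t] := fun t ht => by
    rcases free (h t · (ne_one h2 ht)) (hm t (ne_one h2 ht)) (ne_one h2 ht) with ⟨p, -, hp⟩ | e
    · rwa [hp.eq_prime h2 (ht ▸ orderOf_dvd_card' (mem_cen1.2 rfl))]
    · exact absurd (all_of_cc ht e hs) hn
  obtain ⟨S, hS, sS⟩ := (pElt h2 hs).zpowers.exists_syl le_top
  obtain ⟨z, hz, z2⟩ := (hS.pi.mono (inf_le_left : Z(S) ≤ S)).exists_elt
    (hS.pi.center_ne_bot fun e => ne_one h2 hs (e.le (sS (mem_zpowers s))))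
  have ez := hS.max (k z z2) (le_cen1.2 hz.2) le_top
  have sq : ∀ u : G, u * u ≠ 1 → C[u * u] = C[u] := fun u hu =>
    (hm u fun e => hu (by simp [e])).eq (cen_zp (mul_mem (mem_zpowers u) (mem_zpowers u))) hu
  have c : ∀ u ∈ S, u * u ≠ 1 → S ≤ C[u] := fun u hu u2 => by
    have e : u * z * (u * z) = u * u := by
      have := mem_cen1.1 (ez.ge hu)
      rw [mul_assoc, ← mul_assoc z, ← this, mul_assoc, ← mul_assoc, ← pow_two z, sq_of_ord z2, mul_one]
    have e' : C[u * z] = C[u] := by rw [← sq _ (e ▸ u2), e, sq u u2]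
    have u1 : u ≠ 1 := fun e => u2 (by simp [e])
    refine ez.ge.trans ((hm u u1).eq (fun g hg => mem_cen1.2 (mul_left_cancel (a := u) ?_)) (ne_one h2 z2)).le
    rw [← mul_assoc, ← mem_cen1.1 hg, mul_assoc, mem_cen1.1 (e'.ge hg), mul_assoc]
  have ab : Ab S := ab_iff_forall.2 fun a ha b hb => by_contra fun e => by
    have a2 : a * a = 1 := by_contra fun e' => e (mem_cen1.1 (c a ha e' hb)).symm
    have b2 : b * b = 1 := by_contra fun e' => e (mem_cen1.1 (c b hb e' ha))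
    have ab2 : a * b * (a * b) = 1 := by_contra fun e' =>
      e (mul_left_cancel (a := a) (by rw [mem_cen1.1 (c _ (mul_mem ha hb) e' ha), mul_assoc]))
    refine e ?_
    rw [eq_inv_of_mul_eq_one_left ab2, mul_inv_rev, ← eq_inv_of_mul_eq_one_left a2, ← eq_inv_of_mul_eq_one_left b2]
  exact hn (hS.max (k s hs) (ab.le_cen1 (sS (mem_zpowers s))) le_top ▸ ab)

section
variable [IsSimpleGroup G] (hn : ¬ IsMulCommutative G)
include hn

theorem cen_ne (hx : x ≠ 1) : x ∉ center G := fun e => by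
  rcases (inferInstance : (center G).Normal).eq_bot_or_eq_top with k | k
  · exact hx (k.le e)
  · exact hn ⟨⟨fun a b => mem_center_iff.1 (k.ge (mem_top b)) a⟩⟩

theorem ncop (hx : x ≠ 1) (hy : y ≠ 1) (hc : y ∈ C[x]) : ¬ C[x].index.Coprime C[y].index := fun h => by
  rcases (normalCore_normal C[x]).eq_bot_or_eq_top with k | k
  · refine hy (k.le fun g => ?_)
    obtain ⟨a, ha, b, hb, rfl⟩ := H1.exists_mul_of_coprime_index h g
    rw [mul_assoc a, mem_cen1.1 hb, mul_inv_rev, ← mul_assoc, ← mul_assoc, mul_inv_cancel_right]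
    exact mul_mem (mul_mem ha hc) (inv_mem ha)
  · exact cen_ne hn hx (mem_center_iff.2 fun g => mem_cen1.1 (normalCore_le _ (k.ge (mem_top g))))

theorem niso : ¬ IsIsolatedInvolution t := fun h =>
  have := Fact.mk Nat.prime_two
  have := isCyclic_of_prime_card (H8.not_simple_of_isolated h)
  hn inferInstance

theorem main {xa xb xc : G} (ha : xa ≠ 1) (hb : xb ≠ 1) (hc : xc ≠ 1) {a b c : ℕ} (ea : C[xa].index = a)
    (eb : C[xb].index = b) (ec : C[xc].index = c) (hall : ∀ x : G, x ≠ 1 → C[x].index = a ∨ C[x].index = b ∨ C[x].index = c)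
    (hd : b ∣ a) (hne : b ≠ a) (hs : orderOf s = 2) : Ab C[s] := by
  have h2 := Nat.prime_two
  have cop : b.Coprime c := coprime_iff_forall.2 fun p hp h1 h3 => by
    obtain ⟨z, zp, hz⟩ := central hp (h1.trans (eb ▸ index_dvd_card _))
    rcases hall z (ne_one hp zp) with e | e | e <;> rw [e] at hz
    exacts [hz (h1.trans hd), hz h1, hz h3]
  have b1 : b ≠ 1 := fun e => ncop hn hb hb (mem_cen1.2 rfl) (by rw [eb, e]; simp)
  have c1 : c ≠ 1 := fun e => ncop hn hc hc (mem_cen1.2 rfl) (by rw [ec, e]; simp)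
  have bc : ¬ b ∣ c := fun e => b1 (Nat.Coprime.eq_one_of_dvd cop e)
  have cb : ¬ c ∣ b := fun e => c1 (Nat.Coprime.eq_one_of_dvd cop.symm e)
  have ab : ¬ a ∣ b := fun e => hne (Nat.dvd_antisymm hd e)
  have Ma : Mx G a := fun y hy e => by
    rcases hall y hy with k | k | k <;> rw [k] at e ⊢
    exacts [absurd e ab, absurd (hd.trans e) bc]
  have mb : Mn G b := fun y hy e => by
    rcases hall y hy with k | k | k <;> rw [k] at e ⊢
    exacts [absurd e ab, absurd e cb]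
  have nc : ∀ {x y : G}, x ≠ 1 → y ≠ 1 → C[x].index = b → C[y].index = c → y ∉ C[x] := fun hx hy e1 e2 h =>
    ncop hn hx hy h (by rwa [e1, e2])
  by_cases ca : c ∣ a
  · exfalso
    obtain ⟨p, hp, pb⟩ := Nat.exists_prime_and_dvd b1
    obtain ⟨q, hq, qc⟩ := Nat.exists_prime_and_dvd c1
    obtain ⟨y, yp, hy⟩ := central hp (pb.trans (eb ▸ index_dvd_card _))
    obtain ⟨x, xq, hx⟩ := central hq (qc.trans (ec ▸ index_dvd_card _))
    have y1 := ne_one hp yp
    have x1 := ne_one hq xq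
    have ey : C[y].index = c := by
      rcases hall y y1 with k | k | k <;> rw [k] at hy
      exacts [absurd (pb.trans hd) hy, absurd pb hy, k]
    have ex : C[x].index = b := by
      rcases hall x x1 with k | k | k <;> rw [k] at hx
      exacts [absurd (qc.trans ca) hx, k, absurd qc hx]
    obtain ⟨w, hw, w1⟩ := exists_ne_one fun e : C[x] ⊓ C[y] = ⊥ => by
      have := H1.index_inf_of_coprime (H := C[x]) (K := C[y]) (by rwa [ex, ey])
      rw [e, ex, ey] at this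
      exact ha ((eqi bot_le (Nat.dvd_antisymm (by rw [this, ea]; exact cop.mul_dvd_of_dvd_of_dvd hd ca)
        (index_dvd_of_le bot_le))).ge (mem_cen1.2 rfl))
    obtain ⟨z, hz, hr⟩ := exists_prime_order_zpowers w1
    have hz := zpowers_le.2 hw hz
    have z1 := ne_one hr rfl
    rcases hall z z1 with k | k | k
    · rw [← k] at Ma
      by_cases e : p = orderOf z
      · exact nc x1 y1 ex ey (Ma.le (pElt hr rfl) ((piElt_of_orderOf_prime hq xq).2 fun e' =>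
          coprime_iff_forall.1 cop p hp pb (e.trans e'.symm ▸ qc)) z1 (sym hz.1) (sym hz.2))
      · exact nc x1 y1 ex ey (sym (Ma.le (pElt hr rfl) ((piElt_of_orderOf_prime hp yp).2 e) z1 (sym hz.2) (sym hz.1)))
    · exact nc z1 y1 k ey (sym hz.2)
    · exact nc x1 z1 ex k hz.1
  have Mc : Mx G c := fun y hy e => by
    rcases hall y hy with k | k | k <;> rw [k] at e ⊢
    exacts [absurd e ca, absurd e cb]
  have mc : Mn G c := fun y hy e => by
    rcases hall y hy with k | k | k <;> rw [k] at e ⊢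
    exacts [absurd (hd.trans e) bc, absurd e bc]
  have np : ∀ p, p.Prime → ¬ PGrp p C[xc] := fun p hp h => by
    obtain ⟨k, hk⟩ := h.card
    have : b ∣ #C[xc] * c := by rw [← ec, card_mul_index, ← eb]; exact index_dvd_card _
    obtain ⟨j, -, e⟩ := (Nat.dvd_prime_pow hp).1 (hk ▸ cop.dvd_of_dvd_mul_right this)
    exact hn ⟨⟨H6.comm_of_simple_of_index_prime_pow hp hb (eb.trans e)⟩⟩
  have cc := (free (ec ▸ Mc) (ec ▸ mc) hc).resolve_left fun ⟨p, hp, h⟩ => np p hp h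
  by_cases ev : 2 ∣ #C[xc]
  · obtain ⟨t, ht, t2⟩ := exists_elt_of_prime_dvd h2 ev
    exact all_of_cc t2 (cc t ht (ne_one h2 t2) ▸ cc) hs
  exfalso
  obtain ⟨v, hv, hr⟩ := exists_prime_order_zpowers hc
  have iso : ∀ x : G, x ≠ 1 → C[x].index = b → ∀ g, g⁻¹ * x * g ∈ C[x] → g ∈ C[x] := fun x hx e g =>
    reg_class (Q := O[{orderOf v}](C[xc])) (ab_of_cc cc) (fun h hh h1 => (cc h hh h1).le) (pcore_le _ _)
      (fun e => ne_one hr rfl (e.le (pcore_max (pElt hr rfl).zpowers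
        ((ab_of_cc cc).nml (zpowers_le.2 (zpowers_le.2 (mem_cen1.2 rfl) hv))) (mem_zpowers v))))
      (fun e => np _ hr ((pcore_pi _ _).mono e)) (nrm_le_nrm_pcore _ _) (cen_ne hn hx)
      (H1.exists_mul_of_coprime_index (by rwa [e, ec]))
      (eq_bot_iff.2 fun h hh => by_contra fun h1 => nc hx h1 e (by rw [cc h hh.2 h1, ec]) hh.1)
  have ia : ∀ t : G, orderOf t = 2 → C[t].index = a := fun t ht => by
    rcases hall t (ne_one h2 ht) with k | k | k
    · exact k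
    · refine absurd ⟨ht, fun g hg => ?_⟩ (niso hn)
      have := inv_mem_iff.1 (iso t (ne_one h2 ht) k g⁻¹ (by rw [inv_inv]; exact mem_cen1.2 hg.symm))
      rw [mem_cen1.1 this, mul_inv_cancel_right]
    · have := (card_mul_index C[t]).trans (card_mul_index C[xc]).symm
      rw [k, ec] at this
      exact absurd (Nat.eq_of_mul_eq_mul_right (Nat.pos_of_ne_zero (ec ▸ index_ne_zero_of_finite)) this ▸ ht ▸
        orderOf_dvd_card' (mem_cen1.2 rfl)) ev
  have G2 : 2 ∣ Nat.card G := hs ▸ orderOf_dvd_natCard s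
  obtain ⟨z, z2, hz⟩ := central h2 G2
  rw [ia z z2] at hz
  obtain ⟨x, hx, hp⟩ := exists_prime_order_zpowers hb
  have x1 := ne_one hp rfl
  have ex : C[x].index = b := by rw [Mn.eq (eb ▸ mb) (cen_zp hx) x1, eb]
  have hM : ∀ t ∈ C[x], orderOf t = 2 → C[t] ≤ C[x] := fun t ht t2 => Mx.le (ia t t2 ▸ Ma) (pElt h2 t2)
    ((piElt_of_orderOf_prime hp rfl).2 fun e => hne (ex.symm.trans (ia x e))) (ne_one h2 t2) (sym ht)
  have ev' : 2 ∣ #C[x] := ((Nat.Prime.dvd_mul h2).1 (card_mul_index C[x] ▸ G2)).resolve_right fun e =>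
    hz ((ex ▸ e).trans hd)
  have se : IsStronglyEmbedded C[x] := H20.isStronglyEmbedded_iff.2 ⟨fun e => b1 (by rw [← ex, e, index_top]),
    even_iff_two_dvd.2 ev', fun t ht t2 g hg => iso x x1 ex g (hM t ht t2 (by
      rw [← conj_mem_cj (g := g), cj_cen1]
      simpa [mul_assoc] using sym hg))⟩
  obtain ⟨u, u2, hu⟩ := H20.se_exists_involution_notMem se
  obtain ⟨t, ht, t2⟩ := exists_elt_of_prime_dvd h2 ev'
  refine niso hn ⟨t2, fun g hg => ?_⟩
  obtain ⟨d, hd', e1, e2⟩ := H20.se_exists_conj_inverted se u2 hu ht t2 (hM t ht t2 (mem_cen1.2 hg.symm))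
    ((orderOf_conj g t).trans t2)
  rw [← e2]
  by_cases d1 : d = 1
  · simp [d1]
  have od : ¬ 2 ∣ C[d].index := fun e => by
    rcases hall d d1 with k | k | k <;> rw [k] at e
    exacts [hz e, hz (e.trans hd), nc x1 d1 ex k hd']
  have hud : u ∈ C[d] := (pElt h2 u2).mem_of_relIndex (M := N(C[d]))
    (cj_eq_self.1 (by rw [cj_cen1, e1, cen1_inv])) le_rfl (p'nat_of_not_dvd fun e => od (e.trans (relIndex_dvd_index_of_le (le_nrm _))))
  rw [mem_cen1.1 hud, mul_inv_cancel_right] at e1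
  exact absurd (hM d hd' (orderOf_eq_prime (by rw [pow_two]; exact mul_eq_one_iff_eq_inv.2 e1) d1) hud) hu

theorem psl_of_ab (h : ∀ s : G, orderOf s = 2 → Ab C[s]) : ∃ (m : ℕ) (F : Type) (_ : Field F) (_ : Fintype F),
    2 ≤ m ∧ Fintype.card F = 2 ^ m ∧ Nonempty (G ≃* PSL(2, F)) := by
  obtain ⟨S, hS, -⟩ := (piGrp_bot {2}).exists_syl (le_top : (⊥ : Subgroup G) ≤ ⊤)
  obtain ⟨h1, h2⟩ := H20.syl_ncyc (fun e => hn ⟨⟨IsSimpleGroup.comm_iff_isSolvable.2 (sol_top.1 e)⟩⟩) hS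
  have a : AC S := ⟨hS, h1, h2, h⟩
  have b := a.ea_map (f := MonoidHom.id G) Function.surjective_id (by
    rw [MonoidHom.ker_id]; exact (eq_bot_iff.2 fun x hx => by_contra fun e => cen_ne hn e hx).symm) (AC.tic _ rfl a)
  obtain ⟨F, _, _, hF, e⟩ := b.psl
  obtain ⟨m, hm⟩ := b.syl.pi.card
  have := b.four_le
  rw [hm] at this
  exact ⟨m, F, _, ‹_›, (Nat.pow_le_pow_iff_right one_lt_two).1 this, hF.trans hm, e⟩

theorem three (h : Set.ncard {m : ℕ | ∃ x : G, x ∉ center G ∧ m = C[x].index} = 3) (hs : orderOf s = 2) : Ab C[s] := by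
  by_cases k : ∀ x y : G, x ≠ 1 → y ≠ 1 → C[x].index ∣ C[y].index → C[y].index = C[x].index
  · exact anti k hs
  push Not at k
  obtain ⟨xb, xa, hb, ha, hd, hne⟩ := k
  have h1 := Set.ncard_sdiff (s := {C[xa].index, C[xb].index}) (t := {m : ℕ | ∃ x : G, x ∉ center G ∧ m = C[x].index})
    (Set.pair_subset ⟨xa, cen_ne hn ha, rfl⟩ ⟨xb, cen_ne hn hb, rfl⟩)
  rw [h, Set.ncard_pair hne] at h1
  obtain ⟨c, hc⟩ := Set.ncard_eq_one.1 h1
  obtain ⟨⟨xc, h2, rfl⟩, -⟩ := hc.ge rfl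
  refine main (xc := xc) hn ha hb (fun e => h2 (e ▸ one_mem _)) rfl rfl rfl (fun x hx => ?_) hd hne.symm hs
  exact or_iff_not_imp_left.2 fun e1 => or_iff_not_imp_left.2 fun e2 => hc.le ⟨⟨x, cen_ne hn hx, rfl⟩, fun e => e.elim e1 e2⟩

end

section
variable {F : Type*} [Field F] [Finite F] {m : ℕ} (hm : 2 ≤ m) (hF : Nat.card F = 2 ^ m) (e : G ≃* PSL(2, F))
include hm hF

theorem gcd_eq : Nat.gcd 2 (Nat.card F - 1) = 1 := by
  rw [hF]
  exact (Nat.coprime_two_left.2 (Nat.Even.sub_odd Nat.one_le_two_pow (by simp [Nat.even_pow]; omega) odd_one))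

include e

theorem cen2 (hy : y ≠ 1) : Ab C[y] ∧ ((y ^ 2 = 1 ∧ #C[y] = Nat.card F) ∨
    (y ^ 2 ≠ 1 ∧ (#C[y] = Nat.card F - 1 ∨ #C[y] = Nat.card F + 1))) := by
  have := Fintype.ofFinite F
  have : CharP F 2 := ringChar.of_eq (FiniteField.even_card_iff_char_two.2 (by
    rw [← Nat.card_eq_fintype_card, hF]; exact Nat.mod_eq_zero_of_dvd (dvd_pow_self 2 (by omega))))
  have := Fact.mk Nat.prime_two
  rcases H20.cen_psl 2 e hy with ⟨h1, h2, h3⟩ | ⟨h1, T, hT, h2⟩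
  · exact ⟨h2.ab, Or.inl ⟨h1, h3⟩⟩
  · rw [gcd_eq hm hF, one_mul] at h2
    rw [(hT.alt.resolve_right fun h => h1 (by rw [pow_two, h.1])).1]
    exact ⟨hT.cyc.ab, Or.inr ⟨h1, h2⟩⟩

theorem conv : IsSimpleGroup G ∧ ¬ IsMulCommutative G ∧
    Set.ncard {m : ℕ | ∃ x : G, x ∉ center G ∧ m = C[x].index} = 3 := by
  have h4 : 4 ≤ Nat.card F := hF ▸ Nat.pow_le_pow_right two_pos hm
  have h2 : 2 ∣ Nat.card F := hF ▸ dvd_pow_self 2 (by omega)
  have := H10.isSimpleGroup_PSL_fin (F := F) le_rfl fun _ => h4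
  have := e.isSimpleGroup
  have hG := H10.card_PSL2 (F := F)
  rw [gcd_eq hm hF, one_mul, ← Nat.card_congr e.toEquiv] at hG
  have hc := fun y hy => (cen2 hm hF e (y := y) hy).2
  obtain ⟨k, hk⟩ : ∃ k, Nat.card F = k + 1 := ⟨_, (Nat.succ_pred_eq_of_pos (by omega)).symm⟩
  simp only [hk, Nat.add_sub_cancel] at hG hc h4 h2
  have ex : ∀ n, 1 < n → n ∣ Nat.card G → ∃ r, r.Prime ∧ r ∣ n ∧ ∃ y : G, orderOf y = r ∧ r ∣ #C[y] := fun n h1 hd => by
    obtain ⟨r, hr, rn⟩ := Nat.exists_prime_and_dvd h1.ne'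
    obtain ⟨y, -, hy⟩ := exists_elt_of_prime_dvd (H := ⊤) hr (card_top (G := G) ▸ rn.trans hd)
    exact ⟨r, hr, rn, y, hy, hy ▸ orderOf_dvd_card' (mem_cen1.2 rfl)⟩
  have od : ∀ {r : ℕ} {y : G}, r.Prime → orderOf y = r → y ^ 2 = 1 → r = 2 := fun hr hy h =>
    (Nat.prime_dvd_prime_iff_eq hr Nat.prime_two).1 (hy ▸ orderOf_dvd_of_pow_eq_one h)
  obtain ⟨x, -, x2⟩ := exists_elt_of_prime_dvd (H := ⊤) Nat.prime_two
    (card_top (G := G) ▸ hG ▸ (h2.mul_right _).mul_right _)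
  have x1 := ne_one Nat.prime_two x2
  have cx := ((hc x x1).resolve_right fun h => h.1 (sq_of_ord x2)).2
  obtain ⟨r, hr, rk, y, yr, ry⟩ := ex k (by omega) (hG ▸ (dvd_mul_left _ _).mul_right _)
  have cy : #C[y] = k := by
    rcases hc y (ne_one hr yr) with h | ⟨-, h | h⟩
    · obtain rfl := od hr yr h.1; omega
    · exact h
    · obtain rfl := (Nat.prime_dvd_prime_iff_eq hr Nat.prime_two).1 ((Nat.dvd_add_right rk).1 (h ▸ ry)); omega
  obtain ⟨l, hl, lk, z, zl, lz⟩ := ex (k + 1 + 1) (by omega) (hG ▸ dvd_mul_left _ _)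
  have cz : #C[z] = k + 1 + 1 := by
    rcases hc z (ne_one hl zl) with h | ⟨-, h | h⟩
    · obtain rfl := od hl zl h.1; omega
    · obtain rfl := (Nat.prime_dvd_prime_iff_eq hl Nat.prime_two).1 ((Nat.dvd_add_right (h ▸ lz)).1 lk); omega
    · exact h
  have hn : ¬ IsMulCommutative G := fun h => by
    have k1 : ∀ a : G, C[a] = ⊤ := fun a => eq_top_iff.2 fun b _ => mem_cen1.2 (h.is_comm.comm b a)
    rw [k1] at cx cy; omega
  have ne : ∀ {a b : G}, #C[a] ≠ #C[b] → C[a].index ≠ C[b].index := fun {a b} h e => h (Nat.eq_of_mul_eq_mul_right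
    (Nat.pos_of_ne_zero index_ne_zero_of_finite) ((card_mul_index _).trans (e ▸ card_mul_index C[b]).symm))
  have eq : ∀ {a b : G}, #C[a] = #C[b] → C[a].index = C[b].index := fun {a b} h => Nat.eq_of_mul_eq_mul_left
    (card_pos C[b]) ((h ▸ card_mul_index C[a]).trans (card_mul_index C[b]).symm)
  refine ⟨‹_›, hn, Set.ncard_eq_three.2 ⟨C[x].index, C[y].index, C[z].index, ne (by omega), ne (by omega), ne (by omega),
    Set.ext fun n => ⟨?_, ?_⟩⟩⟩
  · rintro ⟨a, ha, rfl⟩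
    rcases hc a fun e => ha (e ▸ one_mem _) with h | ⟨-, h | h⟩
    exacts [Or.inl (eq (h.2.trans cx.symm)), Or.inr (Or.inl (eq (h.trans cy.symm))), Or.inr (Or.inr (eq (h.trans cz.symm)))]
  · rintro (rfl | rfl | rfl)
    exacts [⟨x, cen_ne hn x1, rfl⟩, ⟨y, cen_ne hn (ne_one hr yr), rfl⟩, ⟨z, cen_ne hn (ne_one hl zl), rfl⟩]

theorem ti (x : G) : IsTISubset (C[x] : Set G) := fun g hg y hy h => by_contra fun y1 => hg (cj_eq_self.1 (by
  by_cases x1 : x = 1
  · rw [x1, cen1_one, cj_top]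
  have k : ∀ a ∈ C[x], a ≠ 1 → C[a] = C[x] := fun a ha a1 =>
    le_antisymm ((cen2 hm hF e a1).1.le_cen1 (sym ha)) ((cen2 hm hF e x1).1.le_cen1 ha)
  rw [← k y hy y1, cj_cen1, k _ h fun e => y1 (by simpa using e), k y hy y1]))

end

end Cfsg.Agent.H23.Ito
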