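import Mathlib
import Cfsg.Agent.H20.Simple
import Cfsg.Agent.H20.Invol
/-! Groups with a Klein four Sylow 2-subgroup: fusion of involutions. -/
set_option autoImplicit false
namespace Cfsg.Agent.H23
open Subgroup
variable {G : Type*} [Group G]

theorem k4_sq {K : Subgroup G} (hK : IsKleinFour K) {x : G} (hx : x ∈ K) : x * x = 1 := by
  have := IsKleinFour.mul_self (G := K) ⟨x, hx⟩
  exact congrArg Subtype.val this

theorem k4_inv {K : Subgroup G} (hK : IsKleinFour K) {x : G} (hx : x ∈ K) : x⁻¹ = x :=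
  inv_eq_of_mul_eq_one_right (k4_sq hK hx)

theorem k4_comm {K : Subgroup G} (hK : IsKleinFour K) {x y : G} (hx : x ∈ K) (hy : y ∈ K) :
    x * y = y * x := by
  have h := k4_inv hK (K.mul_mem hx hy)
  rw [mul_inv_rev, k4_inv hK hx, k4_inv hK hy] at h
  exact h.symm

theorem k4_eq_mul {K : Subgroup G} (hK : IsKleinFour K) {x y z : G} (hx : x ∈ K) (hy : y ∈ K)
    (hz : z ∈ K) (h1 : x ≠ 1) (h2 : y ≠ 1) (h3 : x ≠ y) (h4 : z ≠ 1) (h5 : z ≠ x) (h6 : z ≠ y) :
    z = x * y := by
  have := IsKleinFour.eq_mul_of_ne_all (G := K) (x := ⟨x, hx⟩) (y := ⟨y, hy⟩) (z := ⟨z, hz⟩)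
    (by simpa using h1) (by simpa using h2) (by simpa using h3) (by simpa using h4)
    (by simpa using h5) (by simpa using h6)
  exact congrArg Subtype.val this

theorem k4_le_cent {K : Subgroup G} (hK : IsKleinFour K) : K ≤ centralizer (K : Set G) :=
  fun _ hx _ hy => k4_comm hK hy hx

theorem k4_card_ne_one {K : Subgroup G} (hK : IsKleinFour K) :
    Nat.card {x : G // x ∈ K ∧ x ≠ 1} = 3 := by
  have := hK
  have : Finite K := IsKleinFour.instFinite
  classical
  have e : {x : G // x ∈ K ∧ x ≠ 1} ≃ {x : K // x ≠ 1} :=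
    { toFun := fun x => ⟨⟨x.1, x.2.1⟩, fun h => x.2.2 (congrArg Subtype.val h)⟩
      invFun := fun x => ⟨x.1.1, x.1.2, fun h => x.2 (Subtype.ext h)⟩
      left_inv := fun _ => rfl
      right_inv := fun _ => rfl }
  rw [Nat.card_congr e]
  have := Fintype.ofFinite K
  rw [Nat.card_eq_fintype_card, Fintype.card_subtype_compl, Fintype.card_subtype_eq,
    ← Nat.card_eq_fintype_card, IsKleinFour.card_four]

theorem conj_mem_of_mem_normalizer {K : Subgroup G} {n x : G} (hn : n ∈ normalizer (K : Set G))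
    (hx : x ∈ K) : n * x * n⁻¹ ∈ K := (mem_normalizer_iff.mp hn x).mp hx

/-- The square of an element normalising a four-group and fixing one involution centralises. -/
theorem k4_sq_mem_cent {K : Subgroup G} (hK : IsKleinFour K) {n u : G}
    (hn : n ∈ normalizer (K : Set G)) (hu : u ∈ K) (hu1 : u ≠ 1) (h : n * u * n⁻¹ = u) :
    n * n ∈ centralizer (K : Set G) := by
  intro x hx
  have key : n * (n * x * n⁻¹) * n⁻¹ = x := by
    by_cases hx1 : x = 1
    · simp [hx1]
    by_cases hxu : x = u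
    · rw [hxu, h, h]
    by_cases hf : n * x * n⁻¹ = x
    · rw [hf, hf]
    have hm := conj_mem_of_mem_normalizer hn hx
    have h1 : n * x * n⁻¹ ≠ 1 := by
      intro e; apply hx1
      have : x = n⁻¹ * (n * x * n⁻¹) * n := by group
      rw [this, e]; group
    have h2 : n * x * n⁻¹ ≠ u := by
      intro e; apply hxu
      have : n * x * n⁻¹ = n * u * n⁻¹ := by rw [e, h]
      simpa using this
    have e := k4_eq_mul hK hu hx hm hu1 hx1 (Ne.symm hxu) h1 h2 hf
    rw [e]
    have : n * (u * x) * n⁻¹ = (n * u * n⁻¹) * (n * x * n⁻¹) := by group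
    rw [this, h, e, ← mul_assoc, k4_sq hK hu, one_mul]
  have : x * (n * n) = (n * (n * x * n⁻¹) * n⁻¹) * (n * n) := by rw [key]
  rw [this]; group

variable [Finite G]

theorem odd_relIndex_cent (P : Sylow 2 G) (hP : (P : Subgroup G) ≤ centralizer (P : Set G)) :
    ¬ 2 ∣ (centralizer (P : Set G)).relIndex (normalizer (P : Set G)) := by
  intro h
  apply P.not_dvd_index
  have h1 : (P : Subgroup G).relIndex (centralizer (P : Set G)) *
      (centralizer (P : Set G)).relIndex (normalizer (P : Set G)) =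
      (P : Subgroup G).relIndex (normalizer (P : Set G)) :=
    relIndex_mul_relIndex _ _ _ hP (centralizer_le_normalizer _)
  have h2 : (P : Subgroup G).relIndex (normalizer (P : Set G)) ∣ (P : Subgroup G).index :=
    relIndex_dvd_index_of_le le_normalizer
  exact (h.trans (Dvd.intro_left _ h1)).trans h2

theorem k4_mem_cent_of_fix (P : Sylow 2 G) (hK : IsKleinFour (P : Subgroup G)) {n u : G}
    (hn : n ∈ normalizer (P : Set G)) (hu : u ∈ (P : Subgroup G)) (hu1 : u ≠ 1)
    (h : n * u * n⁻¹ = u) : n ∈ centralizer (P : Set G) := by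
  have h2 := k4_sq_mem_cent hK hn hu hu1 h
  have hodd := odd_relIndex_cent P (k4_le_cent hK)
  set m := (centralizer (P : Set G)).relIndex (normalizer (P : Set G)) with hm
  have hpow : n ^ m ∈ centralizer (P : Set G) := by
    have : ((centralizer (P : Set G)).subgroupOf (normalizer (P : Set G))).Normal :=
      inferInstance
    have := pow_index_mem (H := (centralizer (P : Set G)).subgroupOf (normalizer (P : Set G)))
      ⟨n, hn⟩
    exact this
  obtain ⟨k, hk⟩ : Odd m := Nat.not_even_iff_odd.mp (fun h => hodd (even_iff_two_dvd.mp h))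
  have e : n = n ^ m * ((n * n) ^ k)⁻¹ := by
    rw [hk, ← sq, ← pow_mul]; group
  rw [e]
  exact mul_mem hpow (inv_mem (pow_mem h2 k))

theorem k4_conj_of_not_le (P : Sylow 2 G) (hK : IsKleinFour (P : Subgroup G))
    (h : ¬ normalizer (P : Set G) ≤ centralizer (P : Set G)) {x y : G}
    (hx : x ∈ (P : Subgroup G)) (hx1 : x ≠ 1) (hy : y ∈ (P : Subgroup G)) (hy1 : y ≠ 1) :
    ∃ n ∈ normalizer (P : Set G), n * x * n⁻¹ = y := by
  obtain ⟨n, hn, hnc⟩ := SetLike.not_le_iff_exists.mp h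
  have nf : ∀ u ∈ (P : Subgroup G), u ≠ 1 → n * u * n⁻¹ ≠ u := fun u hu hu1 e =>
    hnc (k4_mem_cent_of_fix P hK hn hu hu1 e)
  have n1 : ∀ u : G, u ≠ 1 → n * u * n⁻¹ ≠ 1 := by
    intro u hu e; apply hu
    have : u = n⁻¹ * (n * u * n⁻¹) * n := by group
    rw [this, e]; group
  by_cases hxy : x = y
  · exact ⟨1, one_mem _, by simp [hxy]⟩
  by_cases e1 : n * x * n⁻¹ = y
  · exact ⟨n, hn, e1⟩
  have hm := conj_mem_of_mem_normalizer (K := (P : Subgroup G)) hn hx
  have e2 := k4_eq_mul hK hx hy hm hx1 hy1 hxy (n1 x hx1) (nf x hx hx1) e1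
  have hm' := conj_mem_of_mem_normalizer (K := (P : Subgroup G)) hn hy
  have e3 : n * y * n⁻¹ ≠ n * x * n⁻¹ := by
    intro e; exact hxy (by simpa using e.symm)
  have e4 : n * y * n⁻¹ = x := by
    by_contra e
    exact e3 ((k4_eq_mul hK hx hy hm' hx1 hy1 hxy (n1 y hy1) e (nf y hy hy1)).trans e2.symm)
  refine ⟨n⁻¹, inv_mem hn, ?_⟩
  rw [← e4]; group

theorem exists_conj_mem_sylow {p : ℕ} [Fact p.Prime] (P : Sylow p G) {t : G}
    (ht : ∃ k, orderOf t = p ^ k) : ∃ g : G, g * t * g⁻¹ ∈ (P : Subgroup G) := by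
  obtain ⟨k, hk⟩ := ht
  have hz : IsPGroup p (zpowers t) := IsPGroup.of_card (by rw [Nat.card_zpowers, hk])
  obtain ⟨Q, hQ⟩ := hz.exists_le_sylow
  obtain ⟨g, rfl⟩ := MulAction.exists_smul_eq G Q P
  refine ⟨g, ?_⟩
  have := hQ (mem_zpowers t)
  rw [Sylow.coe_subgroup_smul, Subgroup.mem_pointwise_smul_iff_inv_smul_mem]
  simpa [mul_assoc] using this

/-- the set of classes of involutions -/
abbrev InvCl (G : Type*) [Group G] :=
  {C : ConjClasses G // ∃ t : G, orderOf t = 2 ∧ ConjClasses.mk t = C}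

theorem k4_invCl_one (P : Sylow 2 G) (hK : IsKleinFour (P : Subgroup G))
    (h : ¬ normalizer (P : Set G) ≤ centralizer (P : Set G)) : Nat.card (InvCl G) = 1 := by
  rw [Nat.card_eq_one_iff_unique]
  have h3 := k4_card_ne_one hK
  obtain ⟨a, ha, ha1⟩ : Nonempty {x : G // x ∈ (P : Subgroup G) ∧ x ≠ 1} :=
    (Nat.card_pos_iff.mp (by omega)).1
  refine ⟨⟨?_⟩, ⟨⟨ConjClasses.mk a, a, H20.orderOf_two_of (k4_sq hK ha) ha1, rfl⟩⟩⟩
  rintro ⟨_, s, hs, rfl⟩ ⟨_, t, ht, rfl⟩
  apply Subtype.ext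
  obtain ⟨g, hg⟩ := exists_conj_mem_sylow P ⟨1, by simpa using hs⟩
  obtain ⟨g', hg'⟩ := exists_conj_mem_sylow P ⟨1, by simpa using ht⟩
  obtain ⟨n, -, hn⟩ := k4_conj_of_not_le P hK h hg
    (H20.ne_one_of_orderOf_two (by rw [H20.orderOf_conj, hs])) hg'
    (H20.ne_one_of_orderOf_two (by rw [H20.orderOf_conj, ht]))
  simp only [ConjClasses.mk_eq_mk_iff_isConj, isConj_iff]
  exact ⟨g'⁻¹ * n * g, by
    have : g'⁻¹ * n * g * s * (g'⁻¹ * n * g)⁻¹ = g'⁻¹ * (n * (g * s * g⁻¹) * n⁻¹) * g' := by group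
    rw [this, hn]; group⟩

theorem k4_invCl_three (P : Sylow 2 G) (hK : IsKleinFour (P : Subgroup G))
    (h : normalizer (P : Set G) ≤ centralizer (P : Set G)) : Nat.card (InvCl G) = 3 := by
  rw [← k4_card_ne_one hK]
  symm
  refine Nat.card_eq_of_bijective (fun x => ⟨ConjClasses.mk x.1, x.1,
    H20.orderOf_two_of (k4_sq hK x.2.1) x.2.2, rfl⟩) ⟨?_, ?_⟩
  · rintro ⟨x, hx, hx1⟩ ⟨y, hy, hy1⟩ e
    have e' : IsConj x y := ConjClasses.mk_eq_mk_iff_isConj.mp (congrArg Subtype.val e)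
    obtain ⟨g, hg⟩ := isConj_iff.mp e'
    obtain ⟨n, hn, e2⟩ := P.conj_eq_normalizer_conj_of_mem_centralizer x g⁻¹ (k4_le_cent hK hx)
      (by rw [inv_inv, hg]; exact k4_le_cent hK hy)
    rw [inv_inv, hg] at e2
    apply Subtype.ext
    have := h hn x hx
    show x = y
    rw [e2, mul_assoc, this]; group
  · rintro ⟨_, t, ht, rfl⟩
    obtain ⟨g, hg⟩ := exists_conj_mem_sylow P ⟨1, by simpa using ht⟩
    refine ⟨⟨g * t * g⁻¹, hg, H20.ne_one_of_orderOf_two (by rw [H20.orderOf_conj, ht])⟩, ?_⟩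
    apply Subtype.ext
    simp only [ConjClasses.mk_eq_mk_iff_isConj, isConj_iff]
    exact ⟨g⁻¹, by group⟩

theorem k4_relIndex_three (P : Sylow 2 G) (hK : IsKleinFour (P : Subgroup G))
    (h : ¬ normalizer (P : Set G) ≤ centralizer (P : Set G)) :
    (centralizer (P : Set G)).relIndex (normalizer (P : Set G)) = 3 := by
  have h3 := k4_card_ne_one hK
  obtain ⟨a, ha, ha1⟩ : Nonempty {x : G // x ∈ (P : Subgroup G) ∧ x ≠ 1} :=
    (Nat.card_pos_iff.mp (by omega)).1
  let : MulAction (normalizer (P : Set G)) G :=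
    MulAction.compHom G ((MulAut.conj (G := G)).comp (normalizer (P : Set G)).subtype)
  have hs : ∀ (n : normalizer (P : Set G)) (x : G), n • x = n * x * (n : G)⁻¹ := fun _ _ => rfl
  have e1 : MulAction.stabilizer (normalizer (P : Set G)) a =
      (centralizer (P : Set G)).subgroupOf (normalizer (P : Set G)) := by
    ext n
    rw [MulAction.mem_stabilizer_iff, hs, mem_subgroupOf]
    constructor
    · exact k4_mem_cent_of_fix P hK n.2 ha ha1
    · intro hn
      rw [← hn a ha]; group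
  have e2 : MulAction.orbit (normalizer (P : Set G)) a = {x | x ∈ (P : Subgroup G) ∧ x ≠ 1} := by
    ext x
    constructor
    · rintro ⟨n, rfl⟩
      refine ⟨conj_mem_of_mem_normalizer (K := (P : Subgroup G)) n.2 ha, ?_⟩
      show (n : G) * a * (n : G)⁻¹ ≠ 1
      intro e; apply ha1
      have : a = (n : G)⁻¹ * ((n : G) * a * (n : G)⁻¹) * n := by group
      rw [this, e]; group
    · rintro ⟨hx, hx1⟩
      obtain ⟨n, hn, e⟩ := k4_conj_of_not_le P hK h ha ha1 hx hx1
      exact ⟨⟨n, hn⟩, e⟩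
  rw [relIndex, ← e1, MulAction.index_stabilizer, e2, ← h3]
  rfl

omit [Finite G] in
theorem normalizer_le_cent_of_compl {P N : Subgroup G} [N.Normal] (hc : IsComplement' N P)
    (hP : P ≤ centralizer (P : Set G)) : normalizer (P : Set G) ≤ centralizer (P : Set G) := by
  intro n hn x hx
  obtain ⟨⟨k, u⟩, rfl⟩ := (hc.existsUnique n).exists
  have hk : (k : G) ∈ normalizer (P : Set G) := by
    have := mul_mem hn (inv_mem (le_normalizer u.2))
    simpa using this
  have h1 : (k : G) * x * (k : G)⁻¹ * x⁻¹ ∈ N ⊓ P := by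
    refine ⟨?_, P.mul_mem (conj_mem_of_mem_normalizer hk hx) (P.inv_mem hx)⟩
    have := mul_mem k.2 (‹N.Normal›.conj_mem _ (inv_mem k.2) x)
    simpa [mul_assoc] using this
  rw [hc.disjoint.eq_bot, mem_bot] at h1
  have h2 : (k : G) * x = x * k := by
    have : (k : G) * x = ((k : G) * x * (k : G)⁻¹ * x⁻¹) * (x * k) := by group
    rw [this, h1, one_mul]
  have h3 := hP u.2 x hx
  show x * ((k : G) * u) = (k : G) * u * x
  rw [← mul_assoc, ← h2, mul_assoc, h3, mul_assoc]

end Cfsg.Agent.H23
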