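import Cfsg.Agent.H23.CI2
import Cfsg.Agent.H28.Util2
import Cfsg.Agent.H4.GWC

/-! Camina–Gagen: metacyclic Sylow `2`-subgroups with a cyclic quotient of order at least four. -/

set_option autoImplicit false
set_option linter.unusedSectionVars false
set_option linter.unusedVariables false
set_option linter.style.haveILetI false

namespace Cfsg.Agent.H23

open Cfsg Subgroup Cfsg.Agent.FT Cfsg.Agent.GW Cfsg.Agent.GO
open scoped commutatorElement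

universe u

variable {G : Type u} [Group G] [Finite G] {A E K L N Q R S T Z : Subgroup G} {b g u v x y z : G}

structure MQ (S N : Subgroup G) : Prop where
  le : N ≤ S
  cyc : Cyc N
  der : ⁅S, S⁆ ≤ N
  a1 : ∀ t ∈ S, t * t ∈ N → ∀ x ∈ N, x ^ 4 = 1 → t * x = x * t
  a2 : ∀ u ∈ S, ∀ v ∈ S, u * u ∈ N → v * v ∈ N → u ∈ N ∨ v ∈ N ∨ u * v ∈ N
  a3 : ∃ b ∈ S, b * b ∉ N

theorem MQ.map {H : Type*} [Group H] (h : MQ S N) (f : G →* H) (hf : ∀ x ∈ S, f x = 1 → x = 1) :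
    MQ (S.map f) (N.map f) := by
  have k : ∀ x ∈ S, f x ∈ N.map f → x ∈ N := fun x hx ⟨n, hn, e⟩ => by
    rw [← mul_inv_eq_one.1 (hf (n * x⁻¹) (mul_mem (h.le hn) (inv_mem hx)) (by simp [e]))]; exact hn
  refine ⟨map_mono h.le, h.cyc.map f, by rw [← map_commutator]; exact map_mono h.der, ?_, ?_, ?_⟩
  · rintro _ ⟨t, ht, rfl⟩ e _ ⟨x, hx, rfl⟩ e'
    rw [← map_mul, ← map_mul, h.a1 t ht (k _ (mul_mem ht ht) (by rwa [map_mul])) x hx
      (hf _ (pow_mem (h.le hx) 4) (by rwa [map_pow]))]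
  · rintro _ ⟨u, hu, rfl⟩ _ ⟨v, hv, rfl⟩ e e'
    exact (h.a2 u hu v hv (k _ (mul_mem hu hu) (by rwa [map_mul])) (k _ (mul_mem hv hv) (by rwa [map_mul]))).imp
      (mem_map_of_mem f) (·.imp (mem_map_of_mem f) fun c => map_mul f u v ▸ mem_map_of_mem f c)
  · obtain ⟨b, hb, e⟩ := h.a3
    exact ⟨f b, mem_map_of_mem f hb, fun c => e (k _ (mul_mem hb hb) (by rwa [map_mul]))⟩

theorem mq_top (hp : IsPGroup 2 G) [N.Normal] (h1 : IsCyclic N) (h2 : IsCyclic (G ⧸ N)) (h3 : 2 < Nat.card (G ⧸ N)) :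
    MQ ⊤ N := by
  obtain ⟨c, hc⟩ := h2.exists_generator
  have ho := orderOf_eq_card_of_forall_mem_zpowers hc
  obtain ⟨k, hk⟩ := IsPGroup.iff_card.1 (hp.to_quotient N)
  have h4 : ((2 * 2 : ℕ) : ℤ) ∣ orderOf c := by
    rw [hk] at h3
    rw [ho, hk]
    refine Int.natCast_dvd_natCast.2 (pow_dvd_pow 2 (show 2 ≤ k from ?_))
    by_contra e
    interval_cases k <;> omega
  have sq : ∀ t : G, t * t ∈ N → ∃ i : ℤ, (t : G ⧸ N) = c ^ (2 * i) ∧ (orderOf c : ℤ) ∣ 2 * (2 * i) := fun t ht => by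
    obtain ⟨j, hj⟩ := hc (t : G ⧸ N)
    have hj : c ^ j = t := hj
    have e : (orderOf c : ℤ) ∣ 2 * j := orderOf_dvd_iff_zpow_eq_one.2 (by
      rw [two_mul, zpow_add, hj, ← QuotientGroup.mk_mul]; exact (QuotientGroup.eq_one_iff _).2 ht)
    obtain ⟨i, rfl⟩ : (2 : ℤ) ∣ j := Int.dvd_of_mul_dvd_mul_left two_ne_zero (by exact_mod_cast h4.trans e)
    exact ⟨i, hj.symm, e⟩
  refine ⟨le_top, h1, commutator_le.2 fun a _ b _ => (QuotientGroup.eq_one_iff _).1 ?_, fun t _ ht x hx e => ?_,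
    fun u _ v _ hu hv => ?_, ?_⟩
  · change QuotientGroup.mk' N _ = 1
    rw [map_commutatorElement, commutatorElement_eq_one_iff_mul_comm]
    exact h2.isMulCommutative.is_comm.comm _ _
  · obtain ⟨i, hi, -⟩ := sq t ht
    obtain ⟨s, hs⟩ := QuotientGroup.mk_surjective (c ^ i)
    have h5 : (s * s)⁻¹ * t ∈ N := QuotientGroup.eq.1 (by rw [hi, QuotientGroup.mk_mul, hs, two_mul, zpow_add])
    obtain ⟨r, hr⟩ := Cyc.exists_conj_pow h1 (g := s) (by rw [normalizer_eq_top]; trivial)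
    have h6 : x ^ (r * r) = x := by
      rcases Nat.even_or_odd' r with ⟨m, rfl | rfl⟩
      · have e1 : x ^ 2 = 1 := by
          have := hr _ (pow_mem hx 2)
          rw [← pow_mul, ← mul_assoc, pow_mul, show 2 * 2 = 4 from rfl, e, one_pow] at this
          simpa [mul_inv_eq_one] using this
        have := hr _ hx
        rw [pow_mul, e1, one_pow] at this
        have : x = 1 := by simpa [mul_inv_eq_one] using this
        simp [this]
      · rw [show (2 * m + 1) * (2 * m + 1) = 4 * (m * m + m) + 1 by ring, pow_succ, pow_mul, e, one_pow, one_mul]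
    have h7 : s * s * x = x * (s * s) := by
      have := hr _ (hr x hx ▸ pow_mem hx r)
      rw [hr x hx, ← pow_mul, h6, ← hr x hx] at this
      exact mul_inv_eq_iff_eq_mul.1 (by simpa only [mul_inv_rev, mul_assoc] using this)
    have h8 := (Cyc.ab h1).comm h5 hx
    calc t * x = s * s * ((s * s)⁻¹ * t * x) := by group
      _ = x * t := by rw [h8, ← mul_assoc, h7]; group
  · obtain ⟨i, hi, ⟨m, hm⟩⟩ := sq u hu
    obtain ⟨j, hj, ⟨n, hn⟩⟩ := sq v hv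
    have one : ∀ (w : G) (l : ℤ), (w : G ⧸ N) = c ^ l → (orderOf c : ℤ) ∣ l → w ∈ N := fun w l e d =>
      (QuotientGroup.eq_one_iff _).1 (e.trans (orderOf_dvd_iff_zpow_eq_one.1 d))
    rcases Int.even_or_odd' m with ⟨a, rfl | rfl⟩
    · exact .inl (one u _ hi ⟨a, by linarith⟩)
    rcases Int.even_or_odd' n with ⟨b, rfl | rfl⟩
    · exact .inr (.inl (one v _ hj ⟨b, by linarith⟩))
    exact .inr (.inr (one _ (2 * i + 2 * j) (by rw [QuotientGroup.mk_mul, hi, hj, zpow_add]) ⟨a + b + 1, by linarith⟩))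
  · obtain ⟨b, rfl⟩ := QuotientGroup.mk_surjective c
    refine ⟨b, trivial, fun e => ?_⟩
    have := Nat.le_of_dvd two_pos (orderOf_dvd_of_pow_eq_one (x := (b : G ⧸ N)) (n := 2) (by
      rw [pow_two, ← QuotientGroup.mk_mul]; exact (QuotientGroup.eq_one_iff _).2 e))
    omega

theorem four (w : G) : w ^ 4 = w * w * (w * w) := by rw [← pow_two, ← pow_two, ← pow_mul]

theorem exists_four (k : ℕ) : ∀ x : G, x ^ 2 ^ k = 1 → x * x ≠ 1 → ∃ y ∈ ⟪x⟫, y ^ 4 = 1 ∧ y * y ≠ 1 := by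
  induction k with
  | zero => exact fun x e h => (h (by simp_all)).elim
  | succ k ih =>
    intro x e h
    by_cases c : x ^ 4 = 1
    · exact ⟨x, mem_zpowers x, c, h⟩
    obtain ⟨y, hy, k⟩ := ih (x * x) (by rw [← pow_two, ← pow_mul, ← pow_succ', e]) fun e => c (by rw [← e, four])
    exact ⟨y, zpowers_le.2 (mul_mem (mem_zpowers x) (mem_zpowers x)) hy, k⟩

namespace MQ

variable (h : MQ S N) (hS : PGrp 2 S)
include h

include hS in
theorem comm (hu : u ∈ S) (hv : v ∈ S) (e1 : u * u = 1) (e2 : v * v = 1) : u * v = v * u := by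
  have f : ∀ w : G, w * w = 1 → w ^ 4 = 1 := fun w e => by rw [four, e, one_mul]
  rcases h.a2 u hu v hv (e1 ▸ one_mem _) (e2 ▸ one_mem _) with k | k | k
  · exact (h.a1 v hv (e2 ▸ one_mem _) u k (f u e1)).symm
  · exact h.a1 u hu (e1 ▸ one_mem _) v k (f v e2)
  have i1 := eq_inv_of_mul_eq_one_left e1
  have i2 := eq_inv_of_mul_eq_one_left e2
  have i3 : (u * v)⁻¹ = v * u := by rw [mul_inv_rev, ← i1, ← i2]
  by_contra c
  obtain ⟨n, hn⟩ := (hS.piElt (h.le k)).exists_pow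
  obtain ⟨y, ⟨m, rfl⟩, y4, y2⟩ := exists_four n (u * v) hn fun e => c (i3 ▸ eq_inv_of_mul_eq_one_left e)
  have a := h.a1 u hu (e1 ▸ one_mem _) _ (zpow_mem k m) y4
  have b : u * (u * v) ^ m * u⁻¹ = ((u * v) ^ m)⁻¹ := by
    rw [← conj_zpow, ← inv_zpow, i3, ← mul_assoc, e1, one_mul, ← i1]
  exact y2 (by rw [a, mul_inv_cancel_right] at b; exact mul_eq_one_iff_eq_inv.2 b)

include hS in
theorem tri (hf : Fr x z) (hx : x ∈ S) (hz : z ∈ S) (hy : y ∈ S) (e : y * y = 1) : y ∈ ⟪x⟫ ⊔ ⟪z⟫ := by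
  have key : ∀ n w : G, Invo n → n ∈ N → n ∈ ⟪x⟫ ⊔ ⟪z⟫ → w ∈ ⟪x⟫ ⊔ ⟪z⟫ → w ∉ N → y ∈ ⟪x⟫ ⊔ ⟪z⟫ := by
    intro n w h1 h2 h3 h4 h5
    have k : ∀ a ∈ N, a * a = 1 → a ∈ ⟪x⟫ ⊔ ⟪z⟫ := fun a ha e => by
      by_cases c : a = 1
      · exact c ▸ one_mem _
      · exact Cyc.invo_eq h.cyc h2 ha h1 (invo_of e c) ▸ h3
    have h6 := hf.V_le hx hz h4
    rcases h.a2 y hy w h6 (e ▸ one_mem _) (hf.sq h4 ▸ one_mem _) with c | c | c
    · exact k y c e
    · exact (h5 c).elim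
    · exact (mul_mem_cancel_right h4).1 (k _ c (by
        rw [mul_assoc, ← mul_assoc w, ← h.comm hS hy h6 e (hf.sq h4), mul_assoc, hf.sq h4, mul_one, e]))
  have ne : ∀ a b : G, Fr a b → a ∈ N → b ∉ N := fun a b f h1 h2 => f.ne (Cyc.invo_eq h.cyc h2 h1 f.2 f.1)
  rcases h.a2 x hx z hz (hf.1.sq ▸ one_mem _) (hf.2.sq ▸ one_mem _) with c | c | c
  · exact key x z hf.1 c hf.l_mem hf.r_mem (ne _ _ hf c)
  · exact key z x hf.2 c hf.r_mem hf.l_mem (ne _ _ hf.symm c)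
  · exact key _ x hf.mul c hf.m_mem hf.l_mem (ne _ _ hf.left.symm c)

include hS in
theorem cenA (ho : Odd #A) (n : ℕ) : ∀ E : Subgroup G, #E = n → E ≤ S → A ≤ N(E) →
    (∀ x ∈ E, x * x = 1 → A ≤ C[x]) → A ≤ C(E) := by
  induction n using Nat.strong_induction_on with
  | _ n ih =>
  intro E hn h1 h2 h3
  have sub : ∀ F < E, A ≤ N(F) → A ≤ C(F) := fun F hF k =>
    ih _ (hn ▸ card_lt hF) F rfl (hF.le.trans h1) k fun x hx => h3 x (hF.le hx)
  have pE := hS.mono h1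
  have cop := cop_of_odd pE ho
  rcases (comm_le_left h2).eq_or_lt with e | e
  swap
  · exact comm_eq_bot'.1 (by
      rw [← coprime_commGid h2 cop]; exact comm_eq_bot'.2 (sub _ e (norm_comm_right _ _)))
  by_cases c : E = ⊥
  · rw [c]; exact le_top.trans cen_bot.ge
  have a1 := sub _ (Phi_lt c) ((Phi_char E).norms h2)
  have a2 : E ≤ C(Phi E) := by
    refine comm_eq_bot.1 ?_
    nth_rewrite 1 [← e, commutator_comm E A]
    refine three_subgroup (A := E) (B := Phi E) (C := A) (comm_eq_bot'.2 (a1.trans (cen_anti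
      (comm_le_right (Phi_nrm E))))) (by rw [comm_eq_bot'.2 a1, commutator_bot_left])
  have d1 := (der_nml E).2
  have d2 : A ≤ N(⁅E, E⁆) := norms_der h2
  have a3 : Phi E ≤ ⁅E, E⁆ := (quo_eq_bot ((Phi_le E).trans d1)).1 (eq_bot_of_le (le_inf
    (by rw [← quo_comm d1 d2, e]; exact quo_mono _ (Phi_le E)) (centsC (quo_cents _ a1)))
    (coprime_abel_cent_TI (quo_norms _ h2) (cop.quo _) (ab_quo_der E)))
  have sqP : ∀ t ∈ E, t * t ∈ Phi E := fun t ht => pE.Mho_le_Phi (sq t ▸ pow_mem_Mho 2 ht)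
  have a4 : ∀ w ∈ ⁅E, E⁆, w * w = 1 := by
    have ab : Ab (Phi E) := ab_iff.2 ((Phi_le E).trans a2)
    have : ⁅E, E⁆ ≤ Ω[2](Phi E) := commutator_le.2 fun a ha b hb => by
      have k1 := pE.der_le_Phi (commutator_mem_commutator ha hb)
      refine mem_Ohm k1 ?_
      have k2 := FT.mem_cen.1 (a2 ha) _ k1
      have k3 := FT.mem_cen.1 (a2 hb) _ (sqP a ha)
      calc ⁅a, b⁆ ^ 2 = a * ⁅a, b⁆ * a⁻¹ * ⁅a, b⁆ := by rw [← k2, sq, mul_inv_cancel_right]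
        _ = a * a * b * (a * a)⁻¹ * b⁻¹ := by rw [commutatorElement_def]; group
        _ = 1 := by rw [k3]; group
    exact fun w hw => sq w ▸ (ab.mem_Ohm_iff.1 (this hw)).2
  have dN : ⁅E, E⁆ ≤ N := (commSS h1 h1).trans h.der
  have a5 : ∀ w ∈ E, w ∈ N → ∀ t ∈ E, t * w = w * t := fun w hw hN t ht =>
    h.a1 t (h1 ht) (dN (a3 (sqP t ht))) w hN (by rw [← a4 _ (a3 (sqP w hw)), four])
  have a6 : ⁅E, E⁆ = ⊥ := comm_eq_bot.2 fun u hu => FT.mem_cen.2 fun v hv => by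
    rcases h.a2 u (h1 hu) v (h1 hv) (dN (a3 (sqP u hu))) (dN (a3 (sqP v hv))) with k | k | k
    · exact a5 u hu k v hv
    · exact (a5 v hv k u hu).symm
    · exact mul_left_cancel (a := u) (by rw [a5 _ (mul_mem hu hv) k u hu, mul_assoc])
  exact centsC fun x hx => le_cen1.1 (h3 x hx (mem_bot.1 (a6 ▸ a3 (sqP x hx))))

include hS in
theorem npc (hT : Syl 2 (S ⊓ K) K) (hz : Invo z) (h1 : z ∈ Z(K)) : NPC 2 K := by
  have zT : z ∈ S ⊓ K := hT.pcore_le (pcore_max hz.pGrp (nml_of_le_center (zpowers_le.2 h1)) (mem_zpowers z))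
  refine Frobenius_normal_complement hT fun Q hQ _ g hg h2 => ?_
  have ho := odd_zpowers h2
  have c := zpowers_le.2 (cen_le_cen1 hg.1 h1.2 |> cen1_comm.1)
  refine h.cenA hS ho _ Q rfl (hQ.trans inf_le_left) (zpowers_le.2 hg.2) (fun x hx e => ?_) (mem_zpowers g)
  by_cases x1 : x = 1
  · rw [x1, cen1_one]; exact le_top
  by_cases x2 : x = z
  · exact x2 ▸ c
  have hf := fr_of hz (invo_of e x1) (cen1_comm.1 (cen_le_cen1 (hQ hx).2 h1.2)) x2
  refine hf.cents ho (zpowers_le.2 (hf.mem_nrm ?_ (h.tri hS hf zT.1 (hQ hx).1 (hQ (conj_mem hg.2 hx)).1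
    ((invo_of e x1).conj g).sq))) c
  rw [mem_cen1.1 (c (mem_zpowers g)), mul_inv_cancel_right]; exact hf.l_mem

theorem sol_of_lay (hS : Syl 2 S ⊤) (hO : Od((⊤ : Subgroup G)) = ⊥) (hE : E((⊤ : Subgroup G)) = ⊥) :
    Sol (⊤ : Subgroup G) := by
  have a1 := cent_fitting_of_lay hE
  rw [fitting_eq_pcore hO] at a1
  have a2 := hS.pcore_le
  have a3 := pcore_nml {2} (⊤ : Subgroup G)
  have a4 := pcore_pi {2} (⊤ : Subgroup G)
  generalize O[{2}]((⊤ : Subgroup G)) = Q at *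
  refine H28.sol_of_two_primes Nat.prime_two Nat.prime_three fun r hr hd => ?_
  by_contra c
  simp only [Set.mem_insert_iff, Set.mem_singleton_iff, not_or] at c
  obtain ⟨g, -, hg⟩ := exists_elt_of_prime_dvd hr hd
  have ho : Odd #⟪g⟫ := by rw [card_zpowers', hg]; exact hr.odd_of_ne_two c.1
  have n1 : ⟪g⟫ ≤ N(Q) := le_top.trans a3.2
  have a5 := h.cenA hS.pi ho _ Q rfl a2 n1 fun x hx e => by
    by_cases x1 : x = 1
    · rw [x1, cen1_one]; exact le_top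
    let W : Subgroup G := ⟨⟨⟨{y | y ∈ Q ∧ y * y = 1}, fun {a b} ha hb => ⟨mul_mem ha.1 hb.1, by
      rw [mul_assoc, ← mul_assoc b, ← h.comm hS.pi (a2 ha.1) (a2 hb.1) ha.2 hb.2, mul_assoc, hb.2, mul_one, ha.2]⟩⟩,
      one_mem _, mul_one 1⟩, fun {a} ha => ⟨inv_mem ha.1, by rw [← mul_inv_rev, ha.2, inv_one]⟩⟩
    have ab : ∀ y ∈ Ω[2](Q), y * y = 1 := fun y hy =>
      ((Ohm_le_iff (K := W)).2 (fun y hy e => ⟨hy, sq y ▸ e⟩) hy).2
    have hx' : x ∈ Ω[2](Q) := mem_Ohm hx (sq x ▸ e)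
    have k1 := x2_relIndex_cen1_lt (norms_Ohm 2 n1) hx' x1
    have k2 : #Ω[2](Q) ≤ 4 := by
      by_cases c : Ω[2](Q) ≤ ⟪x⟫
      · exact (card_le c).trans ((invo_of e x1).card ▸ by norm_num)
      obtain ⟨y, hy, k⟩ := SetLike.not_le_iff_exists.1 c
      have hf := fr_of (invo_of e x1) (invo_of (ab y hy) fun c => k (c ▸ one_mem _)) (mem_cen1.2
        (h.comm hS.pi (a2 (Ohm_le _ _ hy)) (a2 hx) (ab y hy) e)) fun c => k (c ▸ mem_zpowers _)
      exact hf.card ▸ card_le fun w hw => h.tri hS.pi hf (a2 hx) (a2 (Ohm_le _ _ hy)) (a2 (Ohm_le _ _ hw)) (ab w hw)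
    have k3 := relIndex_dvd_card C[x] ⟪g⟫
    rw [card_zpowers', hg] at k3
    rcases (Nat.dvd_prime hr).1 k3 with k | k
    · exact relIndex_eq_one.1 k
    · have := hr.five_le_of_ne_two_of_ne_three c.1 c.2
      omega
  have := (a4.piElt (a1 ⟨trivial, a5 (mem_zpowers g)⟩))
  exact c.1 ((piElt_of_orderOf_prime hr hg).1 this)

theorem false_of_as (hS : Syl 2 S ⊤) (hX : AS ⊤ K) (hs : IsSimpleGroup K) (hn : ¬ Ab K) (hf : Fr x z)
    (e : S ⊓ K = ⟪x⟫ ⊔ ⟪z⟫) : False := by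
  have hT := hS.inf_nml hX.nml
  have nT : S ≤ N(S ⊓ K) := normsI (le_nrm S) (le_top.trans hX.nml.2)
  have key : ∀ g ∈ S, g ∈ C(S ⊓ K) → g ∈ S ⊓ K := fun g hg =>
    hX.aut_ab hs hn hT (e ▸ hf.ab) trivial (hS.pi.piElt hg)
  have sq : ∀ w ∈ S ⊓ K, w * w = 1 := fun w hw => hf.sq (e ▸ hw)
  obtain ⟨b, hb, h1⟩ := h.a3
  obtain ⟨n, hn, i, h2⟩ : ∃ n ∈ S ⊓ K, Invo n ∧ n ∈ N := by
    have l : x ∈ S ⊓ K := e ▸ hf.l_mem
    have r : z ∈ S ⊓ K := e ▸ hf.r_mem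
    rcases h.a2 x l.1 z r.1 (hf.1.sq ▸ one_mem _) (hf.2.sq ▸ one_mem _) with c | c | c
    exacts [⟨_, l, hf.1, c⟩, ⟨_, r, hf.2, c⟩, ⟨_, mul_mem l r, hf.mul, c⟩]
  have h3 : b * n * b⁻¹ = n := Cyc.invo_eq h.cyc (conj_mem ((nml_of_der_le h.der h.le).2 hb) h2) h2 (i.conj b) i
  have fr : ∀ w ∈ S ⊓ K, w ≠ 1 → w ≠ n → Fr n w ∧ S ⊓ K = ⟪n⟫ ⊔ ⟪w⟫ := fun w hw w1 w2 => by
    have f := fr_of i (invo_of (sq w hw) w1) (mem_cen1.2 ((e ▸ hf.ab :  Ab (S ⊓ K)).comm hw hn)) w2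
    exact ⟨f, e.trans (hf.V_eq f (e ▸ hn) (e ▸ hw)).symm⟩
  have h4 : b * b ∈ S ⊓ K := key _ (mul_mem hb hb) (FT.mem_cen.2 fun w hw => by
    suffices b * (b * w * b⁻¹) * b⁻¹ = w from
      (mul_inv_eq_iff_eq_mul.1 (by simpa only [mul_inv_rev, mul_assoc] using this)).symm
    by_cases w1 : w = 1
    · simp [w1]
    by_cases w2 : w = n
    · rw [w2, h3, h3]
    obtain ⟨f, e'⟩ := fr w hw w1 w2
    rcases f.invo_mem (e' ▸ conj_mem (nT hb) hw) (f.2.conj b).ne with k | k | k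
    · exact (w2 (by simpa using k.trans h3.symm)).elim
    · rw [k, k]
    · rw [k, show b * (n * w) * b⁻¹ = b * n * b⁻¹ * (b * w * b⁻¹) by group, h3, k, ← mul_assoc, i.sq, one_mul])
  obtain ⟨f, e'⟩ := fr _ h4 (fun c => h1 (c ▸ one_mem _)) fun c => h1 (c ▸ h2)
  exact h1 (sq b (key b hb (by
    rw [e', f.cen_V]
    exact ⟨mem_cen1.2 (mul_inv_eq_iff_eq_mul.1 h3), mem_cen1.2 (mul_assoc _ _ _).symm⟩)) ▸ one_mem _)

theorem sol_core (hS : Syl 2 S ⊤) (hO : Od((⊤ : Subgroup G)) = ⊥) : Sol (⊤ : Subgroup G) := by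
  refine h.sol_of_lay hS hO (lay_eq_bot_iff.2 fun K hK => ?_)
  have hT := hS.inf_subn hK.subn
  have a1 : Z(K) = ⊥ := by_contra fun c => by
    obtain ⟨z, hz, iz⟩ := exists_invo (((pcore_pi {2} ⊤).mono (hK.center_le_fitting.trans
      (fitting_eq_pcore hO).le)).dvd c)
    exact hK.qs.not_sol (sol_npc (h.npc hS.pi hT iz hz))
  have hs := hK.qs.isSimpleGroup a1
  have a5 : ¬ IsMulCommutative K := fun c => hK.qs.not_cents (Ab.le_cen c)
  have ne : ∀ L, Comp L (⊤ : Subgroup G) → S ⊓ L ≠ ⊥ := fun L hL c =>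
    hL.qs.not_sol (sol_npc (npc_of_cyc (hS.inf_subn hL.subn) (c ▸ cyc_bot)))
  have hT' : Syl 2 ((S ⊓ K).subgroupOf K) ⊤ := (hall_so_top hT.le).2 hT
  obtain ⟨d, hd, id⟩ := exists_invo (hT.pi.dvd (ne K hK))
  have a6 : TyG K := H8.tyG_of_sc (fun X _ _ _ => AC.Ap.fs AC.core X) a5 (D := {d | Invo d})
    ⟨fun d hd _ => hd, fun d hd _ g _ => Invo.conj hd g, fun P _ hP d h1 h2 e h3 h4 => by
      obtain ⟨g, -, k⟩ := hT'.syl_Jsub hP le_top
      have := h.comm hS.pi (k (conj_mem_cj.2 h2)).1 (k (conj_mem_cj.2 h4)).1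
        (congrArg Subtype.val (Invo.conj h1 g).sq) (congrArg Subtype.val (Invo.conj h3 g).sq)
      have : g * d * g⁻¹ * (g * e * g⁻¹) = g * e * g⁻¹ * (g * d * g⁻¹) := Subtype.ext this
      simpa [← mul_assoc] using (by simpa [mul_assoc] using this : d * (e * g⁻¹) = e * (d * g⁻¹)),
    fun d h1 _ e h2 _ c ne => Invo.mul h1 h2 c ne⟩ (d := ⟨d, hd.2⟩) (invo_coe.2 id)
  obtain ⟨Z, R, hF, hZ⟩ : ∃ Z R, Fr0 K (S ⊓ K) Z R ∧ (Ab (S ⊓ K) → S ⊓ K = Z) := by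
    rcases a6 with k | k | k
    · obtain ⟨Z, R, t, b⟩ := KB.exists_bi k hT
      exact ⟨Z, R, b.frame, fun c => b.cases.resolve_right fun e => e.1 c⟩
    · obtain ⟨-, R, hF⟩ := k.frame hT
      exact ⟨_, R, hF, fun _ => rfl⟩
    · obtain ⟨-, R, hF⟩ := k.frame hT
      exact ⟨_, R, hF, fun _ => rfl⟩
  have nz : ∀ x : G, Invo x → ∃ z ∈ Z, z ≠ 1 ∧ z ≠ x := fun x ix => by
    by_contra! c
    have := card_le (show Z ≤ ⟪x⟫ from fun z hz => ix.mem_zpowers.2 (or_iff_not_imp_left.2 (c z hz)))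
    have := hF.four
    have := ix.card
    omega
  have a7 := hZ (ab_iff_der.2 (by_contra fun c => by
    obtain ⟨x, hx, ix⟩ := exists_invo ((hT.pi.mono (der_le _)).dvd c)
    obtain ⟨z, hz, z1, z2⟩ := nz x ix
    obtain ⟨r, hr, rfl⟩ := hF.trans x (hF.om x (der_le _ hx) ix.sq) ix.ne z hz z1
    have := (der_mono (inf_le_left : S ⊓ K ≤ S)).trans h.der
    exact z2 (Cyc.invo_eq h.cyc (this (conj_mem (norms_der hF.RT hr) hx)) (this hx) (ix.conj r) ix)))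
  obtain ⟨z, hz, z1, z2⟩ := nz d id
  have sq : ∀ w ∈ S ⊓ K, w * w = 1 := fun w hw => pow_two w ▸ hF.el.pow (a7 ▸ hw)
  have hf := fr_of id (invo_of (sq z (hF.ZT hz)) z1) (cen_le_cen1 hd (hF.cen hz)) z2
  have tri := fun w hw => h.tri (y := w) hS.pi hf hd.1 (hF.ZT hz).1 hw
  have a8 : ∀ L, Syl 2 (S ⊓ L) L → L ≤ C(K) → S ⊓ L = ⊥ := fun L hL c => by_contra fun e => by
    obtain ⟨y, hy, iy⟩ := exists_invo (hL.pi.dvd e)
    exact iy.ne (eq_one_of_mem_inf a1 (hf.V_le hd.2 (hF.ZT hz).2 (tri y hy.1 iy.sq)) (c hy.2))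
  have a3 : K ⊴ ⊤ := le_antisymm hK.le_lay (lay_le_iff.2 fun L hL => (hL.eq_or_cents hK).elim (·.le)
    fun c => (ne L hL (a8 L (hS.inf_subn hL.subn) c)).elim) ▸ lay_nml ⊤
  have a9 : C(K) ⊴ ⊤ := ⟨le_top, norms_cent a3.2⟩
  have a10 := hS.inf_nml a9
  rw [a8 _ a10 le_rfl] at a10
  have a11 := eq_bot_of_le (pcore_max (a10.eq_bot_iff.1 rfl) a9) hO
  exact h.false_of_as hS ⟨a3, by rw [a11, inf_bot_eq]⟩ hs a5 hf
    (le_antisymm (fun w hw => tri w hw.1 (sq w hw)) (hf.V_le hd (hF.ZT hz)))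

theorem sol (hS : Syl 2 S ⊤) : Sol (⊤ : Subgroup G) := by
  have s1 := QuotientGroup.mk'_surjective (oddCore G)
  have k := (h.map (QuotientGroup.mk' (oddCore G)) fun x hx e => (hS.pi.piElt hx).eq_one_of_mem
    (GW.Cor.od_top (G := G) ▸ pcore_pi _ _) ((QuotientGroup.eq_one_iff x).1 e)).sol_core
    (GW.Cor.syl_map s1 hS) GW.Cor.od_quo
  have : Sol (oddCore G) := GW.Cor.od_top (G := G) ▸ sol_odd (odd_core _)
  have := sol_top.1 k
  exact sol_top.2 (Group.isSolvable_of_ker_le_range (oddCore G).subtype (QuotientGroup.mk' (oddCore G)) (by simp))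

end MQ

end Cfsg.Agent.H23
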