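import Mathlib

/-! The transformation law of the theta series of a unimodular lattice. -/

set_option autoImplicit false
set_option linter.unusedSectionVars false
set_option linter.unusedVariables false

namespace Cfsg.Agent.H23.Th
open Complex Matrix
open scoped Real

theorem pi_sum {n : ℕ} (f : Fin n → ℤ → ℂ) (h : ∀ i, Summable (f i)) :
    Summable (fun x : Fin n → ℤ => ∏ i, f i (x i)) ∧
      ∑' x : Fin n → ℤ, ∏ i, f i (x i) = ∏ i, ∑' m, f i m := by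
  induction n with
  | zero => exact ⟨.of_finite, by simp⟩
  | succ n ih =>
    obtain ⟨a, b⟩ := ih (fun i => f i.succ) fun i => h _
    have e : (fun x : Fin (n + 1) → ℤ => ∏ i, f i (x i)) ∘ Fin.consEquiv (fun _ => ℤ) =
        fun p => f 0 p.1 * ∏ i : Fin n, f i.succ (p.2 i) := by
      funext p; simp [Fin.prod_univ_succ, Fin.consEquiv]
    refine ⟨(Fin.consEquiv fun _ => ℤ).summable_iff.1 (by
      rw [e]; exact summable_mul_of_summable_norm (f := f 0)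
        (g := fun x : Fin n → ℤ => ∏ i : Fin n, f i.succ (x i)) (h 0).norm a.norm), ?_⟩
    rw [Fin.prod_univ_succ, ← b, tsum_mul_tsum_of_summable_norm (h 0).norm a.norm, ← e]
    exact ((Fin.consEquiv fun _ => ℤ).tsum_eq _).symm

variable {n : ℕ}

/-- a term of the theta series -/
noncomputable def tm (B : Matrix (Fin n) (Fin n) ℤ) (τ : ℂ) (x : Fin n → ℤ) : ℂ :=
  cexp (π * I * (x ⬝ᵥ (B *ᵥ x) : ℤ) * τ)

/-- the theta series -/
noncomputable def th (B : Matrix (Fin n) (Fin n) ℤ) (τ : ℂ) : ℂ := ∑' x, tm B τ x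

/-- an orthogonal sublattice -/
structure Dg (B P Q : Matrix (Fin n) (Fin n) ℤ) (N : ℕ) (d : Fin n → ℤ) : Prop where
  ne : N ≠ 0
  pq : P * Q = (N : ℤ) • 1
  qp : Q * P = (N : ℤ) • 1
  dg : Pᵀ * B * P = diagonal d
  pos : ∀ i, 0 < d i

theorem exists_dg {B : Matrix (Fin n) (Fin n) ℤ} (hs : B.IsSymm)
    (hp : ∀ x : Fin n → ℤ, x ≠ 0 → 0 < x ⬝ᵥ (B *ᵥ x)) : ∃ P Q N d, Dg B P Q N d := by
  let B' := B.map (Int.cast : ℤ → ℚ)
  obtain ⟨v, hv⟩ := LinearMap.BilinForm.exists_orthogonal_basis (B := Matrix.toBilin' B')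
    (LinearMap.BilinForm.isSymm_iff.1 (Matrix.isSymm_toBilin'_iff_isSymm.2 (hs.map _)))
  let e : Fin n ≃ Fin (Module.finrank ℚ (Fin n → ℚ)) := finCongr (by simp)
  obtain ⟨b, hb⟩ := IsLocalization.exist_integer_multiples_of_finite (nonZeroDivisors ℤ)
    (fun p : Fin n × Fin n => v (e p.2) p.1)
  choose p hp' using hb
  let P : Matrix (Fin n) (Fin n) ℤ := fun i j => p (i, j)
  have b0 : ((b : ℤ) : ℚ) ≠ 0 := by exact_mod_cast nonZeroDivisors.coe_ne_zero b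
  have hP : ∀ i j, (P i j : ℚ) = (b : ℤ) * v (e j) i := fun i j => by simpa using hp' (i, j)
  have en : ∀ i j, (Pᵀ * B * P) i j = (fun k => P k i) ⬝ᵥ (B *ᵥ fun k => P k j) := fun i j => by
    rw [Matrix.mul_assoc]; rfl
  have dg : Pᵀ * B * P = diagonal fun i => (Pᵀ * B * P) i i := by
    ext i j
    by_cases h : i = j
    · simp [h]
    rw [diagonal_apply_ne _ h, en]
    have := hv (e.injective.ne h)
    simp only [Function.onFun, Matrix.toBilin'_apply', B'] at this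
    apply Int.cast_injective (α := ℚ)
    rw [Int.cast_zero, ← mul_zero (((b : ℤ) : ℚ) * (b : ℤ)), ← this]
    simp only [dotProduct, mulVec, Int.cast_sum, Int.cast_mul, hP, map_apply, Finset.mul_sum]
    exact Finset.sum_congr rfl fun _ _ => Finset.sum_congr rfl fun _ _ => by ring
  have pos : ∀ i, 0 < (Pᵀ * B * P) i i := fun i => en i i ▸ hp _ fun h => v.ne_zero (e i) (by
    funext k
    have := hP k i
    rw [show P k i = 0 from congrFun h k] at this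
    simpa [b0] using this)
  have d0 : P.det ≠ 0 := fun h => by
    have := congrArg det dg
    rw [det_mul, h, mul_zero, det_diagonal] at this
    exact (Finset.prod_pos fun i _ => pos i).ne this
  refine ⟨P, P.det • P.adjugate, P.det.natAbs ^ 2, _, by simpa using d0, ?_, ?_, dg, pos⟩
  · rw [Matrix.mul_smul, mul_adjugate, smul_smul]; simp [sq]
  · rw [Matrix.smul_mul, adjugate_mul, smul_smul]; simp [sq]

/-- a term of the dual series -/
noncomputable def hm (P : Matrix (Fin n) (Fin n) ℤ) (d : Fin n → ℤ) (τ : ℂ) (u : Fin n → ℤ) : ℂ :=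
  ∏ i, cexp (-π * I * ((Pᵀ *ᵥ u) i : ℤ) ^ 2 / (τ * d i))

namespace Dg
variable {B P Q : Matrix (Fin n) (Fin n) ℤ} {N : ℕ} {d : Fin n → ℤ} (h : Dg B P Q N d)
include h

theorem pqv (v : Fin n → ℤ) : P *ᵥ (Q *ᵥ v) = (N : ℤ) • v := by
  rw [mulVec_mulVec, h.pq, smul_mulVec, one_mulVec]
theorem qpv (v : Fin n → ℤ) : Q *ᵥ (P *ᵥ v) = (N : ℤ) • v := by
  rw [mulVec_mulVec, h.qp, smul_mulVec, one_mulVec]
theorem pqt (v : Fin n → ℤ) : Pᵀ *ᵥ (Qᵀ *ᵥ v) = (N : ℤ) • v := by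
  rw [mulVec_mulVec, ← transpose_mul, h.qp, transpose_smul, transpose_one, smul_mulVec, one_mulVec]
theorem qpt (v : Fin n → ℤ) : Qᵀ *ᵥ (Pᵀ *ᵥ v) = (N : ℤ) • v := by
  rw [mulVec_mulVec, ← transpose_mul, h.pq, transpose_smul, transpose_one, smul_mulVec, one_mulVec]
theorem canc {a b : Fin n → ℤ} (e : (N : ℤ) • a = (N : ℤ) • b) : a = b :=
  smul_right_injective _ (by exact_mod_cast h.ne) e

theorem k2 (v : Fin n → ℤ) (i : Fin n) : N * (Pᵀ *ᵥ (B *ᵥ v)) i = d i * (Q *ᵥ v) i := by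
  rw [← mulVec_diagonal, ← h.dg, ← mulVec_mulVec, ← mulVec_mulVec, h.pqv, mulVec_smul, mulVec_smul]
  rfl

theorem k1 (v : Fin n → ℤ) : N ^ 2 * (v ⬝ᵥ (B *ᵥ v)) = ∑ i, d i * (Q *ᵥ v) i ^ 2 := by
  have : ∑ i, d i * (Q *ᵥ v) i ^ 2 = N * ((Q *ᵥ v) ⬝ᵥ (Pᵀ *ᵥ (B *ᵥ v))) := by
    simp only [dotProduct, Finset.mul_sum]
    exact Finset.sum_congr rfl fun i _ => by rw [mul_left_comm, h.k2]; ring
  rw [this, dotProduct_mulVec _ Pᵀ, vecMul_transpose, h.pqv, smul_dotProduct, sq, mul_assoc]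
  rfl

theorem tm_eq (τ : ℂ) (v : Fin n → ℤ) :
    tm B τ v = ∏ i, cexp (π * I * ((Q *ᵥ v) i : ℤ) ^ 2 * (τ * (d i / N ^ 2 : ℝ))) := by
  have := congrArg (Int.cast : ℤ → ℂ) (h.k1 v)
  have N0 : (N : ℂ) ≠ 0 := by exact_mod_cast h.ne
  rw [Int.cast_mul, Int.cast_sum] at this
  rw [tm, ← exp_sum, eq_div_of_mul_eq (pow_ne_zero 2 N0) ((mul_comm _ _).trans
    ((congrArg (· * _) (by simp)).trans this))]
  congr 1
  simp only [Finset.sum_div, Finset.mul_sum, Finset.sum_mul]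
  exact Finset.sum_congr rfl fun i _ => by push_cast; ring

theorem inj : Function.Injective fun v : Fin n → ℤ => Q *ᵥ v := fun a b e =>
  h.canc (by rw [← h.pqv, ← h.pqv]; exact congrArg (P *ᵥ ·) e)

theorem im_pos {τ : ℂ} (hτ : 0 < τ.im) (i : Fin n) : 0 < (τ * (d i / N ^ 2 : ℝ)).im := by
  have := h.pos i
  have := Nat.pos_of_ne_zero h.ne
  rw [im_mul_ofReal]; positivity

theorem summ {τ : ℂ} (hτ : 0 < τ.im) : Summable (tm B τ) := by
  have := (pi_sum (fun i m => jacobiTheta₂_term m 0 (τ * (d i / N ^ 2 : ℝ))) fun i =>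
    (summable_jacobiTheta₂_term_iff _ _).2 (h.im_pos hτ i)).1.comp_injective h.inj
  refine this.congr fun v => ?_
  simp [h.tm_eq, jacobiTheta₂_term]

theorem ind [NeZero N] (y : Fin n → ℤ) [Decidable (∃ v, Q *ᵥ v = y)] :
    ∑ a : Fin n → ZMod N, ∏ i, cexp (2 * π * I * y i * ((Pᵀ *ᵥ fun j => ((a j).val : ℤ)) i / N)) =
      if ∃ v, Q *ᵥ v = y then (N : ℂ) ^ n else 0 := by
  have e : ∀ a : Fin n → ZMod N,
      ∏ i, cexp (2 * π * I * y i * ((Pᵀ *ᵥ fun j => ((a j).val : ℤ)) i / N)) =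
        ∏ j, ZMod.stdAddChar (a j * (((P *ᵥ y) j : ℤ) : ZMod N)) := fun a => by
    have : ∀ j, a j * (((P *ᵥ y) j : ℤ) : ZMod N) = (((a j).val * (P *ᵥ y) j : ℤ) : ZMod N) := by simp
    simp only [this, ZMod.stdAddChar_coe, ← exp_sum]
    congr 1
    simp only [mulVec, dotProduct, transpose_apply, Int.cast_sum, Int.cast_mul, Finset.sum_div,
      Finset.mul_sum]
    rw [Finset.sum_comm]
    exact Finset.sum_congr rfl fun _ _ => Finset.sum_congr rfl fun _ _ => by ring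
  simp only [e]
  rw [← Fintype.piFinset_univ, ← Finset.prod_univ_sum _ fun j (a : ZMod N) =>
    ZMod.stdAddChar (a * (((P *ᵥ y) j : ℤ) : ZMod N))]
  simp only [AddChar.sum_mulShift _ (ZMod.isPrimitive_stdAddChar N), ZMod.intCast_zmod_eq_zero_iff_dvd]
  split_ifs with c
  · obtain ⟨v, rfl⟩ := c
    simp only [h.pqv]; simp
  · by_contra k
    refine c ?_
    have : ∀ j, (N : ℤ) ∣ (P *ᵥ y) j := fun j => by_contra fun t =>
      k (Finset.prod_eq_zero (Finset.mem_univ j) (by simp [t]))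
    choose v hv using this
    exact ⟨v, h.canc (by rw [← h.qpv y, show P *ᵥ y = (N : ℤ) • v from funext hv, mulVec_smul])⟩

theorem hm_eq {τ : ℂ} (hτ : τ ≠ 0) (v : Fin n → ℤ) : hm P d τ (B *ᵥ v) = tm B (-1 / τ) v := by
  rw [h.tm_eq, hm]
  refine Finset.prod_congr rfl fun i _ => congrArg _ ?_
  have N0 : (N : ℂ) ≠ 0 := by exact_mod_cast h.ne
  have d0 : (d i : ℂ) ≠ 0 := by exact_mod_cast (h.pos i).ne'
  have := congrArg (Int.cast : ℤ → ℂ) (h.k2 v i)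
  rw [Int.cast_mul, Int.cast_mul, Int.cast_natCast, mul_comm] at this
  rw [eq_div_of_mul_eq N0 this]
  push_cast; field_simp

theorem stepA [NeZero N] {τ : ℂ} (hτ : 0 < τ.im) : (N : ℂ) ^ n * th B τ = ∑ a : Fin n → ZMod N,
    ∏ i, jacobiTheta₂ ((Pᵀ *ᵥ fun j => ((a j).val : ℤ)) i / N) (τ * (d i / N ^ 2 : ℝ)) := by
  classical
  have s := fun a : Fin n → ZMod N => pi_sum (fun i m => jacobiTheta₂_term m
    ((Pᵀ *ᵥ fun j => ((a j).val : ℤ)) i / N) (τ * (d i / N ^ 2 : ℝ))) fun i =>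
    (summable_jacobiTheta₂_term_iff _ _).2 (h.im_pos hτ i)
  simp only [jacobiTheta₂, ← (s _).2]
  rw [← Summable.tsum_finsetSum fun a _ => (s a).1, th, ← tsum_mul_left]
  simp only [jacobiTheta₂_term, exp_add, Finset.prod_mul_distrib, ← Finset.sum_mul, h.ind]
  refine Eq.trans (tsum_congr fun v => ?_) (h.inj.tsum_eq fun y hy => by_contra fun c =>
    hy (mul_eq_zero_of_left (if_neg (show ¬ ∃ v, Q *ᵥ v = y from c)) _))
  rw [if_pos ⟨v, rfl⟩, h.tm_eq]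

theorem stepB {τ : ℂ} (hτ : 0 < τ.im) (a : Fin n → ℤ) :
    ∏ i, jacobiTheta₂ ((Pᵀ *ᵥ a) i / N) (τ * (d i / N ^ 2 : ℝ)) =
      (∏ i, 1 / (-I * (τ * (d i / N ^ 2 : ℝ))) ^ (1 / 2 : ℂ)) * ∑' m, hm P d τ (a - Qᵀ *ᵥ m) := by
  have N0 : (N : ℂ) ≠ 0 := by exact_mod_cast h.ne
  have t0 : τ ≠ 0 := by rintro rfl; simp at hτ
  have s := pi_sum (fun i m => cexp (-π * I * ((Pᵀ *ᵥ a) i / N) ^ 2 / (τ * (d i / N ^ 2 : ℝ))) *
    jacobiTheta₂_term m ((Pᵀ *ᵥ a) i / N / (τ * (d i / N ^ 2 : ℝ))) (-1 / (τ * (d i / N ^ 2 : ℝ))))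
    fun i => ((summable_jacobiTheta₂_term_iff _ _).2 (by
      simpa [neg_div] using UpperHalfPlane.im_inv_neg_coe_pos ⟨_, h.im_pos hτ i⟩)).mul_left _
  rw [Finset.prod_congr rfl fun i _ => jacobiTheta₂_functional_equation _ _]
  simp only [mul_assoc _ (cexp _)]
  rw [Finset.prod_mul_distrib]
  simp only [jacobiTheta₂, ← tsum_mul_left (a := cexp _)]
  rw [← s.2]
  refine congrArg _ (tsum_congr fun m => Finset.prod_congr rfl fun i _ => ?_)
  have d0 : (d i : ℂ) ≠ 0 := by exact_mod_cast (h.pos i).ne'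
  rw [jacobiTheta₂_term, ← exp_add, mulVec_sub, h.pqt]
  congr 1
  simp only [Pi.sub_apply, Pi.smul_apply, smul_eq_mul]
  push_cast; field_simp; ring

theorem cnt [NeZero N] (u : Fin n → ℤ)
    [∀ u : Fin n → ℤ, DecidablePred fun a : Fin n → ZMod N =>
      ∃ m, (fun j => ((a j).val : ℤ)) - Qᵀ *ᵥ m = u] :
    (Finset.univ.filter fun a : Fin n → ZMod N => ∃ m, (fun j => ((a j).val : ℤ)) - Qᵀ *ᵥ m = u).card =
    (Finset.univ.filter fun a : Fin n → ZMod N => ∃ m, (fun j => ((a j).val : ℤ)) - Qᵀ *ᵥ m = 0).card := by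
  refine Finset.card_equiv (Equiv.subRight fun j => (u j : ZMod N)) fun a => ?_
  have : ∀ j, (N : ℤ) ∣ (a j).val - u j - (a j - u j).val := fun j => by
    simp [← ZMod.intCast_zmod_eq_zero_iff_dvd]
  choose k hk using this
  have e : (fun j => ((a j - u j).val : ℤ)) = (fun j => ((a j).val : ℤ)) - u - Qᵀ *ᵥ (Pᵀ *ᵥ k) := by
    funext j
    simp only [h.qpt, Pi.sub_apply, Pi.smul_apply, smul_eq_mul, ← hk j]; ring
  simp only [Finset.mem_filter, Finset.mem_univ, true_and, Equiv.subRight_apply, Pi.sub_apply, e]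
  refine ⟨fun ⟨m, hm⟩ => ⟨m - Pᵀ *ᵥ k, ?_⟩, fun ⟨m, hm⟩ => ⟨m + Pᵀ *ᵥ k, ?_⟩⟩
  · rw [← hm, mulVec_sub]; abel
  · rw [mulVec_add, ← sub_eq_zero, ← hm]; abel

theorem law (hB : B.det = 1) : ∃ c : ℂ, ∀ τ : ℂ, 0 < τ.im → (N : ℂ) ^ n * th B τ =
    (∏ i, 1 / (-I * (τ * (d i / N ^ 2 : ℝ))) ^ (1 / 2 : ℂ)) * (c * th B (-1 / τ)) := by
  classical
  have : NeZero N := ⟨h.ne⟩
  refine ⟨(Finset.univ.filter fun a : Fin n → ZMod N =>
    ∃ m, (fun j => ((a j).val : ℤ)) - Qᵀ *ᵥ m = 0).card, fun τ hτ => ?_⟩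
  have t0 : τ ≠ 0 := by rintro rfl; simp at hτ
  have u : IsUnit B.det := hB ▸ isUnit_one
  let e : (Fin n → ℤ) ≃ (Fin n → ℤ) := ⟨(B *ᵥ ·), (B⁻¹ *ᵥ ·),
    fun v => by simp [mulVec_mulVec, nonsing_inv_mul _ u], fun v => by simp [mulVec_mulVec, mul_nonsing_inv _ u]⟩
  have e1 : hm P d τ ∘ e = tm B (-1 / τ) := funext (h.hm_eq t0)
  have s : Summable (hm P d τ) := e.summable_iff.1 (e1 ▸ h.summ (by
    simpa [neg_div] using UpperHalfPlane.im_inv_neg_coe_pos ⟨_, hτ⟩))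
  have c : ∀ a : Fin n → ℤ, ∑' m, hm P d τ (a - Qᵀ *ᵥ m) =
      ∑' u, if ∃ m, a - Qᵀ *ᵥ m = u then hm P d τ u else 0 := fun a => by
    have i : Function.Injective fun m => a - Qᵀ *ᵥ m := fun x y e =>
      h.canc (by rw [← h.pqt, ← h.pqt, sub_right_injective e])
    refine Eq.trans (tsum_congr fun m => ?_) (i.tsum_eq fun y hy => by_contra fun c =>
      hy (if_neg (show ¬ ∃ m, a - Qᵀ *ᵥ m = y from c)))
    exact (if_pos ⟨m, rfl⟩).symm
  simp only [h.stepA hτ, h.stepB hτ, c, ← Finset.mul_sum]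
  rw [← Summable.tsum_finsetSum fun a _ => s.norm.of_norm_bounded fun u => by split_ifs <;> simp,
    th, ← e1, show ∑' x, (hm P d τ ∘ e) x = _ from e.tsum_eq _]
  refine congrArg _ (Eq.trans (tsum_congr fun u => ?_) tsum_mul_left)
  rw [← Finset.sum_filter, Finset.sum_const, h.cnt, nsmul_eq_mul]

end Dg

theorem th_I {B : Matrix (Fin n) (Fin n) ℤ} (h : Summable (tm B I)) : th B I ≠ 0 := by
  have e : ∀ x, tm B I x = (Real.exp (-π * (x ⬝ᵥ (B *ᵥ x) : ℤ)) : ℝ) := fun x => by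
    rw [tm, ofReal_exp]; congr 1; push_cast; linear_combination π * (x ⬝ᵥ (B *ᵥ x) : ℤ) * I_mul_I
  rw [funext e, summable_ofReal] at h
  simp only [th, e, ← ofReal_tsum, ne_eq, ofReal_eq_zero]
  exact (h.tsum_pos (fun _ => (Real.exp_pos _).le) 0 (Real.exp_pos _)).ne'

theorem law24 {B : Matrix (Fin 24) (Fin 24) ℤ} (hs : B.IsSymm)
    (hp : ∀ x : Fin 24 → ℤ, x ≠ 0 → 0 < x ⬝ᵥ (B *ᵥ x)) (hB : B.det = 1) {τ : ℂ} (hτ : 0 < τ.im) :
    th B (-1 / τ) = τ ^ 12 * th B τ := by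
  obtain ⟨P, Q, N, d, h⟩ := exists_dg hs hp
  obtain ⟨c, hc⟩ := h.law hB
  have N0 : (N : ℂ) ≠ 0 := by exact_mod_cast h.ne
  obtain ⟨A, A0, k⟩ : ∃ A : ℂ, A ≠ 0 ∧ ∀ τ : ℂ, τ ≠ 0 →
      (∏ i, 1 / (-I * (τ * (d i / N ^ 2 : ℝ))) ^ (1 / 2 : ℂ)) = 1 / (A * τ ^ 12) := by
    refine ⟨∏ i, cexp (Real.log (d i / N ^ 2) * (1 / 2)), Finset.prod_ne_zero_iff.2 fun _ _ => exp_ne_zero _,
      fun τ t0 => ?_⟩
    have x0 : -I * τ ≠ 0 := by simp [t0]
    have : ∀ i, (-I * (τ * (d i / N ^ 2 : ℝ))) ^ (1 / 2 : ℂ) =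
        cexp (Real.log (d i / N ^ 2) * (1 / 2)) * cexp (log (-I * τ) * (1 / 2)) := fun i => by
      have r : (0 : ℝ) < d i / N ^ 2 := by
        have := h.pos i
        have := Nat.pos_of_ne_zero h.ne
        positivity
      rw [← mul_assoc, mul_comm, cpow_def_of_ne_zero (mul_ne_zero (by exact_mod_cast r.ne') x0),
        log_ofReal_mul r x0, add_mul, exp_add]
    simp only [this, Finset.prod_div_distrib, Finset.prod_mul_distrib, Finset.prod_const, one_pow,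
      Finset.card_univ, Fintype.card_fin]
    rw [← exp_nat_mul, show ((24 : ℕ) : ℂ) * (log (-I * τ) * (1 / 2)) = (12 : ℕ) * log (-I * τ) by
      push_cast; ring, exp_nat_mul, exp_log x0, mul_pow, show (-I) ^ 12 = 1 by
      rw [show 12 = 2 * 6 from rfl, pow_mul, neg_sq, I_sq]; norm_num, one_mul]
  have t0 : τ ≠ 0 := by rintro rfl; simp at hτ
  have a := hc I (by simp)
  have b := hc τ hτ
  have i0 := th_I (h.summ (τ := I) (by simp))
  rw [k _ I_ne_zero, show -1 / I = I by simp, show I ^ 12 = 1 by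
    rw [show 12 = 2 * 6 from rfl, pow_mul, I_sq]; norm_num] at a
  rw [k _ t0] at b
  obtain rfl : c = N ^ 24 * A := by field_simp at a; exact a.symm
  field_simp at b
  rw [neg_div]
  exact b.symm.trans (mul_comm _ _)

end Cfsg.Agent.H23.Th
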