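import Mathlib
import Cfsg.Agent.H23.Th1

/-! The theta series of an even unimodular lattice of rank 24 is a modular form of weight 12. -/

set_option autoImplicit false
set_option linter.unusedSectionVars false
set_option linter.unusedVariables false

namespace Cfsg.Agent.H23.Th
open Complex Matrix UpperHalfPlane ModularForm EisensteinSeries SlashInvariantForm
open scoped Real MatrixGroups Manifold ArithmeticFunction.sigma

variable {B : Matrix (Fin 24) (Fin 24) ℤ} (hs : B.IsSymm)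
  (hp : ∀ x : Fin 24 → ℤ, x ≠ 0 → 0 < x ⬝ᵥ (B *ᵥ x)) (he : ∀ x : Fin 24 → ℤ, (2 : ℤ) ∣ x ⬝ᵥ (B *ᵥ x))
  (hB : B.det = 1)
include hs hp he hB

theorem summ {τ : ℂ} (hτ : 0 < τ.im) : Summable (tm B τ) :=
  let ⟨_, _, _, _, h⟩ := exists_dg hs hp; h.summ hτ

theorem nn (x : Fin 24 → ℤ) : 0 ≤ x ⬝ᵥ (B *ᵥ x) := by
  by_cases h : x = 0
  exacts [by simp [h], (hp x h).le]

theorem hasSum_q (τ : ℍ) : HasSum (fun m : ℕ => ({x : Fin 24 → ℤ | x ⬝ᵥ (B *ᵥ x) = 2 * m}.ncard : ℂ) •
    Function.Periodic.qParam 1 τ ^ m) (th B τ) := by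
  have a : ∀ (x : Fin 24 → ℤ) (m : ℕ), (x ⬝ᵥ (B *ᵥ x) / 2).toNat = m ↔ x ⬝ᵥ (B *ᵥ x) = 2 * m := fun x m => by
    have := nn hs hp he hB x
    have := he x
    omega
  refine (congrArg (HasSum · _) (funext fun m => ?_)).mp
    ((summ hs hp he hB τ.2).hasSum.tsum_fiberwise fun x => (x ⬝ᵥ (B *ᵥ x) / 2).toNat)
  rw [tsum_congr (g := fun _ => Function.Periodic.qParam 1 τ ^ m), tsum_const, ← Nat.cast_smul_eq_nsmul ℂ,
    Nat.card_coe_set_eq]
  · congr 3; ext x; simp [a]
  · rintro ⟨x, hx⟩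
    rw [tm, (a x m).1 hx, Function.Periodic.qParam, ← exp_nat_mul]
    congr 1; push_cast; ring

theorem diff : DifferentiableOn ℂ (th B) {z | 0 < z.im} := fun z hz => by
  have h2 : 0 < z.im / 2 := half_pos hz
  have U : IsOpen {w : ℂ | z.im / 2 < w.im} := isOpen_lt continuous_const continuous_im
  refine ((differentiableOn_tsum_of_summable_norm (F := fun x w => tm B w x)
    (summ hs hp he hB (τ := (z.im / 2 : ℝ) * Complex.I) (by simpa using h2)).norm
    (fun x => by unfold tm; fun_prop) U fun x w hw => ?_).differentiableAt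
    (U.mem_nhds (half_lt_self (a := z.im) hz))).differentiableWithinAt
  have : (0 : ℝ) ≤ (x ⬝ᵥ (B *ᵥ x) : ℤ) := by exact_mod_cast nn hs hp he hB x
  have hw : z.im / 2 < w.im := hw
  simp only [tm, norm_exp, Real.exp_le_exp]
  generalize (x ⬝ᵥ (B *ᵥ x) : ℤ) = k at this
  simp
  nlinarith [mul_nonneg Real.pi_pos.le this]

set_option backward.isDefEq.respectTransparency.types false in
theorem inv : ∀ γ : SL(2, ℤ), (fun τ : ℍ => th B τ) ∣[(12 : ℤ)] γ = fun τ : ℍ => th B τ := by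
  refine slash_action_generators_SL2Z ?_ ?_
  · ext z
    have := law24 hs hp hB z.2
    rw [SL_slash_apply, modular_S_smul]
    simp only [neg_div, one_div] at this
    simp [denom, ModularGroup.S, this, mul_right_comm, z.ne_zero]
  · ext z
    rw [SL_slash_apply, modular_T_smul]
    have : th B (1 + z) = th B z := tsum_congr fun x => by
      obtain ⟨k, hk⟩ := he x
      rw [tm, tm, hk, ← exp_periodic.int_mul k (π * Complex.I * (2 * k : ℤ) * z)]
      congr 1; push_cast; ring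
    simp [denom, ModularGroup.T, this]

/-- the theta series as a modular form -/
noncomputable def mf : ModularForm 𝒮ℒ 12 where
  toFun τ := th B τ
  slash_action_eq' A hA := by
    obtain ⟨A, rfl⟩ := hA
    exact inv hs hp he hB A
  holo' := by
    rw [UpperHalfPlane.mdifferentiable_iff]
    exact (diff hs hp he hB).congr fun z hz => by simp [ofComplex_apply_of_im_pos hz]
  bdd_at_cusps' hc := by
    rw [Subgroup.IsArithmetic.isCusp_iff_isCusp_SL2Z] at hc
    rw [OnePoint.isBoundedAt_iff_forall_SL2Z hc]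
    intro γ _
    rw [inv hs hp he hB]
    exact isBoundedAtImInfty_of_hasSum_qExpansion one_pos (hasSum_q hs hp he hB)

theorem coeff (m : ℕ) : (qExpansion 1 (mf hs hp he hB)).coeff m =
    ({x : Fin 24 → ℤ | x ⬝ᵥ (B *ᵥ x) = 2 * m}.ncard : ℂ) :=
  (ModularFormClass.qExpansion_coeff_unique (f := mf hs hp he hB) one_pos one_mem_strictPeriods_SL
    (hasSum_q hs hp he hB) m).symm

theorem key (h2 : ∀ x : Fin 24 → ℤ, x ⬝ᵥ (B *ᵥ x) ≠ 2) (m : ℕ) :
    (12 * {x : Fin 24 → ℤ | x ⬝ᵥ (B *ᵥ x) = 2 * m}.ncard : ℂ) =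
      7 * (qExpansion 1 E₄ * qExpansion 1 E₄ * qExpansion 1 E₄).coeff m +
        5 * (qExpansion 1 E₆ * qExpansion 1 E₆).coeff m := by
  let f : ModularForm 𝒮ℒ 12 := (12 : ℂ) • mf hs hp he hB -
    ((7 : ℂ) • ModularForm.mcast (by decide) (E₄.pow 3) + (5 : ℂ) • ModularForm.mcast (by decide) (E₆.pow 2))
  have e : ∀ m : ℕ, (qExpansion 1 f).coeff m = 12 * {x : Fin 24 → ℤ | x ⬝ᵥ (B *ᵥ x) = 2 * m}.ncard -
      (7 * (qExpansion 1 E₄ * qExpansion 1 E₄ * qExpansion 1 E₄).coeff m +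
        5 * (qExpansion 1 E₆ * qExpansion 1 E₆).coeff m) := fun m => by
    simp only [f, FunLike.coe_sub]
    rw [ModularForm.qExpansion_sub one_pos one_mem_strictPeriods_SL]
    simp only [FunLike.coe_add]
    rw [ModularForm.qExpansion_add one_pos one_mem_strictPeriods_SL]
    simp only [FunLike.coe_smul, ModularForm.qExpansion_smul one_pos one_mem_strictPeriods_SL,
      ModularForm.qExpansion_mcast, ModularForm.qExpansion_pow one_pos one_mem_strictPeriods_SL,
      map_sub, map_add, map_smul, smul_eq_mul, coeff, pow_succ, pow_zero, one_mul]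
  have z : f = 0 := sturm_bound_levelOne (by
    refine lt_of_lt_of_le (by decide : _ < ((2 : ℕ) : ℕ∞)) (PowerSeries.nat_le_order _ _ fun i hi => ?_)
    rw [e]
    interval_cases i
    · have : {x : Fin 24 → ℤ | x ⬝ᵥ (B *ᵥ x) = 2 * (0 : ℕ)} = {0} := by
        ext x
        by_cases h : x = 0
        exacts [by simp [h], by simpa [h] using (hp x h).ne']
      rw [this]
      norm_num [PowerSeries.coeff_mul, E_qExpansion_coeff_zero _ ⟨2, rfl⟩,
        E_qExpansion_coeff_zero _ ⟨3, rfl⟩, -PowerSeries.coeff_zero_eq_constantCoeff]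
    · have : {x : Fin 24 → ℤ | x ⬝ᵥ (B *ᵥ x) = 2 * (1 : ℕ)} = ∅ := by
        ext x; simpa using h2 x
      rw [this]
      norm_num [PowerSeries.coeff_mul, Finset.Nat.antidiagonal_succ, E₄_qExpansion_coeff_one,
        E₆_qExpansion_coeff_one, E_qExpansion_coeff_zero _ ⟨2, rfl⟩, E_qExpansion_coeff_zero _ ⟨3, rfl⟩])
  have := e m
  rw [z] at this
  simp only [FunLike.coe_zero, qExpansion_zero, map_zero] at this
  exact sub_eq_zero.1 this.symm

omit hs hp he hB in
theorem e4 (m : ℕ) : (qExpansion 1 E₄).coeff m = if m = 0 then 1 else 240 * (σ 3 m : ℂ) := by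
  rw [E_qExpansion_coeff _ ⟨2, rfl⟩]
  norm_num [bernoulli_eq_bernoulli'_of_ne_one, bernoulli'_four]

omit hs hp he hB in
theorem e6 (m : ℕ) : (qExpansion 1 E₆).coeff m = if m = 0 then 1 else -504 * (σ 5 m : ℂ) := by
  rw [E_qExpansion_coeff _ ⟨3, rfl⟩, show bernoulli 6 = 1 / 42 by decide +kernel]
  norm_num

theorem leech (h2 : ∀ x : Fin 24 → ℤ, x ⬝ᵥ (B *ᵥ x) ≠ 2) :
    {x : Fin 24 → ℤ | x ⬝ᵥ (B *ᵥ x) = 4}.ncard = 196560 ∧
    {x : Fin 24 → ℤ | x ⬝ᵥ (B *ᵥ x) = 6}.ncard = 16773120 ∧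
    {x : Fin 24 → ℤ | x ⬝ᵥ (B *ᵥ x) = 8}.ncard = 398034000 := by
  have a := key hs hp he hB h2 2
  have b := key hs hp he hB h2 3
  have c := key hs hp he hB h2 4
  norm_num [PowerSeries.coeff_mul, Finset.Nat.antidiagonal_succ, e4, e6,
    show σ 3 2 = 9 by decide, show σ 3 3 = 28 by decide, show σ 3 4 = 73 by decide,
    show σ 5 2 = 33 by decide, show σ 5 3 = 244 by decide, show σ 5 4 = 1057 by decide] at a b c
  norm_cast at a b c
  omega

end Cfsg.Agent.H23.Th
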